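import Cfsg.Agent.Lib.FormClasses.Basic
import Cfsg.Agent.Lib.SLComm.ClassData
/-!
The conjugate-reciprocal `starP` of a polynomial and its meaning for isometries of sesquilinear forms.
-/
set_option autoImplicit false
set_option linter.unusedVariables false
set_option linter.unusedSectionVars false

namespace Cfsg.Agent.UnitaryClassCount

open Polynomial

variable {F : Type*} [Field F] (σ : F →+* F)

/-- `X^d σP(1/X)` divided by its leading coefficient. -/
noncomputable def starP (P : F[X]) : F[X] := C (σ (P.coeff 0))⁻¹ * (P.map σ).reverse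

theorem starP_one : starP σ (1 : F[X]) = 1 := by
  rw [starP, Polynomial.map_one, ← C_1, reverse_C, coeff_C_zero, map_one, inv_one, C_1, one_mul]

theorem starP_mul (P Q : F[X]) : starP σ (P * Q) = starP σ P * starP σ Q := by
  simp only [starP, Polynomial.map_mul, reverse_mul_of_domain, mul_coeff_zero, map_mul, mul_inv]
  ring

theorem starP_pow (P : F[X]) (k : ℕ) : starP σ (P ^ k) = starP σ P ^ k := by
  induction k with
  | zero => rw [pow_zero, pow_zero, starP_one]
  | succ k ih => rw [pow_succ, pow_succ, starP_mul, ih]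

theorem natDegree_starP {P : F[X]} (h0 : P.coeff 0 ≠ 0) : (starP σ P).natDegree = P.natDegree := by
  have h1 : σ (P.coeff 0) ≠ 0 := fun h => h0 ((map_eq_zero σ).1 h)
  rw [starP, natDegree_C_mul (inv_ne_zero h1), reverse_natDegree,
    natTrailingDegree_eq_zero.2 (Or.inr (by rwa [coeff_map])), natDegree_map_eq_of_injective σ.injective,
    Nat.sub_zero]

theorem coeff_starP {P : F[X]} {i : ℕ} (hi : i ≤ P.natDegree) :
    (starP σ P).coeff i = (σ (P.coeff 0))⁻¹ * σ (P.coeff (P.natDegree - i)) := by
  rw [starP, coeff_C_mul, coeff_reverse, natDegree_map_eq_of_injective σ.injective, revAt_le hi,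
    coeff_map]

theorem starP_monic {P : F[X]} (h0 : P.coeff 0 ≠ 0) : (starP σ P).Monic := by
  have h1 : σ (P.coeff 0) ≠ 0 := fun h => h0 ((map_eq_zero σ).1 h)
  rw [Monic, leadingCoeff, natDegree_starP σ h0, coeff_starP σ le_rfl, Nat.sub_self, inv_mul_cancel₀ h1]

theorem coeff_zero_starP {P : F[X]} (hm : P.Monic) (h0 : P.coeff 0 ≠ 0) :
    (starP σ P).coeff 0 = (σ (P.coeff 0))⁻¹ := by
  rw [coeff_starP σ (Nat.zero_le _), Nat.sub_zero, hm.coeff_natDegree, map_one, mul_one]

theorem coeff_zero_starP_ne {P : F[X]} (hm : P.Monic) (h0 : P.coeff 0 ≠ 0) :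
    (starP σ P).coeff 0 ≠ 0 := by
  rw [coeff_zero_starP σ hm h0]
  exact inv_ne_zero fun h => h0 ((map_eq_zero σ).1 h)

theorem starP_starP (hσ : ∀ a, σ (σ a) = a) {P : F[X]} (hm : P.Monic) (h0 : P.coeff 0 ≠ 0) :
    starP σ (starP σ P) = P := by
  have hd := natDegree_starP σ h0
  ext i
  rcases le_or_gt i P.natDegree with hi | hi
  · rw [coeff_starP σ (hd.symm ▸ hi), hd, coeff_zero_starP σ hm h0, coeff_starP σ (Nat.sub_le _ _),
      map_mul, map_inv₀, hσ, hσ, inv_inv, show P.natDegree - (P.natDegree - i) = i by omega,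
      ← mul_assoc, mul_inv_cancel₀ h0, one_mul]
  · rw [coeff_eq_zero_of_natDegree_lt hi, coeff_eq_zero_of_natDegree_lt]
    rw [natDegree_starP σ (coeff_zero_starP_ne σ hm h0), hd]
    exact hi

theorem irreducible_starP (hσ : ∀ a, σ (σ a) = a) {P : F[X]} (hP : Irreducible P) (hm : P.Monic)
    (h0 : P.coeff 0 ≠ 0) : Irreducible (starP σ P) := by
  have hmS := starP_monic σ h0
  have hpos : 0 < P.natDegree := hP.natDegree_pos
  refine (hmS.irreducible_iff_natDegree).2 ⟨fun e => ?_, fun f g hf hg hfg => ?_⟩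
  · have := natDegree_starP σ h0
    rw [e, natDegree_one] at this
    omega
  · have hfg0 : f.coeff 0 * g.coeff 0 ≠ 0 := by
      rw [← mul_coeff_zero, hfg]; exact coeff_zero_starP_ne σ hm h0
    have hf0 : f.coeff 0 ≠ 0 := fun e => hfg0 (by rw [e, zero_mul])
    have hg0 : g.coeff 0 ≠ 0 := fun e => hfg0 (by rw [e, mul_zero])
    have e : P = starP σ f * starP σ g := by rw [← starP_mul, hfg, starP_starP σ hσ hm h0]
    rcases hP.isUnit_or_isUnit e with h | h
    · exact Or.inl (by rw [← natDegree_starP σ hf0]; exact natDegree_eq_zero_of_isUnit h)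
    · exact Or.inr (by rw [← natDegree_starP σ hg0]; exact natDegree_eq_zero_of_isUnit h)

theorem starP_dvd {P Q : F[X]} (h : P ∣ Q) : starP σ P ∣ starP σ Q := by
  obtain ⟨R, rfl⟩ := h
  exact ⟨starP σ R, starP_mul σ P R⟩

section Isometry

variable {σ} {N : ℕ} {V : Type*} [AddCommGroup V] [Module F V] {g : Module.End F V}

theorem pow_pred_comm (hN : 0 < N) (hg : g ^ N = 1) : g ^ (N - 1) * g = 1 ∧ g * g ^ (N - 1) = 1 := by
  rw [← pow_succ, ← pow_succ', Nat.sub_add_cancel hN, hg]
  exact ⟨rfl, rfl⟩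

theorem aeval_starP (hN : 0 < N) (hg : g ^ N = 1) (P : F[X]) :
    aeval g (starP σ P) = algebraMap F (Module.End F V) (σ (P.coeff 0))⁻¹ *
      (g ^ P.natDegree * aeval g (FormClasses.bar σ N P)) := by
  rw [starP, map_mul, aeval_C]
  congr 1
  have hb : aeval g (FormClasses.bar σ N P) = aeval (g ^ (N - 1)) (P.map σ) := by
    rw [FormClasses.bar, RingHom.comp_apply, coe_mapRingHom, coe_compRingHom_apply, aeval_comp,
      aeval_X_pow]
  rw [hb, reverse, natDegree_map_eq_of_injective σ.injective]
  apply LinearMap.ext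
  intro x
  -- expand both sides coefficientwise
  rw [aeval_eq_sum_range' (n := P.natDegree + 1) (p := reflect P.natDegree (P.map σ))
      (Nat.lt_succ_of_le (by
        refine natDegree_le_iff_coeff_eq_zero.2 fun k hk => ?_
        rw [coeff_reflect, revAt_eq_self_of_lt (by omega),
          coeff_eq_zero_of_natDegree_lt (by rw [natDegree_map_eq_of_injective σ.injective]; omega)])),
    aeval_eq_sum_range' (n := P.natDegree + 1) (p := P.map σ)
      (Nat.lt_succ_of_le (by rw [natDegree_map_eq_of_injective σ.injective])),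
    Finset.mul_sum, ← Finset.sum_range_reflect]
  refine congrArg (fun T : Module.End F V => T x) (Finset.sum_congr rfl fun i hi => ?_)
  have hi' := Finset.mem_range.1 hi
  rw [coeff_reflect, show P.natDegree + 1 - 1 - i = P.natDegree - i by omega,
    revAt_le (Nat.sub_le _ _), show P.natDegree - (P.natDegree - i) = i by omega, Algebra.mul_smul_comm]
  congr 1
  have h1 : g * g ^ (N - 1) = 1 := (pow_pred_comm hN hg).2
  have hc : Commute g (g ^ (N - 1)) := Commute.self_pow g _
  conv_rhs => rw [show P.natDegree = (P.natDegree - i) + i by omega, pow_add, mul_assoc,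
    ← hc.mul_pow, h1, one_pow, mul_one]

end Isometry

end Cfsg.Agent.UnitaryClassCount
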