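import Cfsg.Agent.Lib.SLComm.Count
/-!
Counting tuples of conjugate-reciprocal polynomials: `ucnt`, and the bound `classSum_le`.
-/
set_option autoImplicit false

namespace Cfsg.Agent.UnitaryClassCount

open SLComm

/-- The number of conjugate-reciprocal monic polynomials of degree `j`. -/
def cu (q : ℕ) : ℕ → ℕ
  | 0 => 1
  | j + 1 => (q + 1) * q ^ j

/-- The number of tuples of weighted degree `n`. -/
def ucnt (q : ℕ) : List ℕ → ℕ → ℕ
  | [], n => if n = 0 then 1 else 0
  | w :: ws, n => ∑ j ∈ (Finset.range (n + 1)).filter (fun j => w * j ≤ n), cu q j * ucnt q ws (n - w * j)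

/-- The bound on the number of classes of `SU_n(q)`. -/
def classSum (q n : ℕ) : ℕ :=
  ∑ r ∈ Finset.range n, q ^ (n - 1 - r) * ucnt q (downTwo n) r + min n (q + 1) * ucnt q (downTwo n) n

theorem ucnt_cons_lt (q : ℕ) {w : ℕ} (ws : List ℕ) {r : ℕ} (h : r < w) :
    ucnt q (w :: ws) r = ucnt q ws r := by
  show ∑ j ∈ (Finset.range (r + 1)).filter (fun j => w * j ≤ r), _ = _
  rw [Finset.sum_eq_single 0]
  · simp [cu]
  · intro j hj h0
    exfalso
    have := (Finset.mem_filter.1 hj).2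
    have := Nat.le_mul_of_pos_right w (Nat.pos_of_ne_zero h0)
    omega
  · intro h0; simp at h0

theorem ucnt_downTwo_stable (q : ℕ) {r : ℕ} : ∀ (n m : ℕ), r ≤ m → m ≤ n → 1 ≤ m →
    ucnt q (downTwo n) r = ucnt q (downTwo m) r := by
  intro n
  induction n with
  | zero => intro m h1 h2 h3; omega
  | succ n ih =>
    intro m h1 h2 h3
    rcases Nat.lt_or_ge m (n + 1) with h | h
    · obtain ⟨k, rfl⟩ : ∃ k, n = k + 1 := ⟨n - 1, by omega⟩
      rw [show downTwo (k + 1 + 1) = (k + 2) :: downTwo (k + 1) from rfl, ucnt_cons_lt q _ (by omega)]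
      exact ih m h1 (by omega) h3
    · rw [show m = n + 1 by omega]

/-- The generating factor of the weight `w` at `1 / q`. -/
def fac (q w : ℕ) : ℚ := ((q : ℚ) ^ w + 1) / ((q : ℚ) ^ w - q)

theorem pow_sub_pos {q w : ℕ} (hq : 2 ≤ q) (hw : 2 ≤ w) : (0 : ℚ) < (q : ℚ) ^ w - q := by
  have h1 : (q : ℚ) ^ 2 ≤ (q : ℚ) ^ w := pow_le_pow_right₀ (by exact_mod_cast (by omega : 1 ≤ q)) hw
  have h2 : (2 : ℚ) ≤ q := by exact_mod_cast hq
  nlinarith

theorem one_le_fac {q w : ℕ} (hq : 2 ≤ q) (hw : 2 ≤ w) : 1 ≤ fac q w := by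
  rw [fac, le_div_iff₀ (pow_sub_pos hq hw)]
  have : (0 : ℚ) ≤ q := Nat.cast_nonneg q
  linarith

theorem sum_cu_le {q w : ℕ} (hq : 2 ≤ q) (hw : 2 ≤ w) (M : ℕ) :
    ∑ j ∈ Finset.range (M + 1), (cu q j : ℚ) / (q : ℚ) ^ (w * j) ≤ fac q w := by
  have hqp : (0 : ℚ) < q := by exact_mod_cast (by omega : 0 < q)
  have hp := pow_sub_pos hq hw
  set x : ℚ := (q : ℚ) / (q : ℚ) ^ w with hx
  have hx0 : 0 < x := by positivity
  have hx1 : x < 1 := by rw [hx, div_lt_one (by positivity)]; linarith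
  rw [Finset.sum_range_succ', Finset.sum_congr rfl (fun j _ => show (cu q (j + 1) : ℚ) / (q : ℚ) ^ (w * (j + 1)) =
      ((q + 1) / (q : ℚ) ^ w) * x ^ j by
    rw [hx, div_pow, cu, ← pow_mul, mul_add, pow_add, mul_one]
    push_cast
    field_simp), ← Finset.mul_sum]
  simp only [cu, Nat.cast_one, mul_zero, pow_zero, div_one]
  have hg : ∑ j ∈ Finset.range M, x ^ j ≤ 1 / (1 - x) := by
    rw [le_div_iff₀ (by linarith), mul_comm, mul_neg_geom_sum]
    have : 0 ≤ x ^ M := by positivity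
    linarith
  refine le_trans (add_le_add (mul_le_mul_of_nonneg_left hg (by positivity)) le_rfl) (le_of_eq ?_)
  rw [fac, hx]
  field_simp
  ring

theorem sum_ucnt_le {q : ℕ} (hq : 2 ≤ q) : ∀ (ws : List ℕ), (∀ w ∈ ws, 2 ≤ w) → ∀ M,
    ∑ r ∈ Finset.range (M + 1), (ucnt q ws r : ℚ) / (q : ℚ) ^ r ≤ (ws.map (fac q)).prod
  | [], _, M => by
    rw [Finset.sum_range_succ']
    simp [ucnt]
  | w :: ws, hws, M => by
    have hw := hws w List.mem_cons_self
    have hws' : ∀ v ∈ ws, 2 ≤ v := fun v hv => hws v (List.mem_cons_of_mem _ hv)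
    have ih := sum_ucnt_le hq ws hws'
    set T0 := ∑ s ∈ Finset.range (M + 1), (ucnt q ws s : ℚ) / (q : ℚ) ^ s
    have hT0 : 0 ≤ T0 := Finset.sum_nonneg fun s _ => by positivity
    have key : ∑ r ∈ Finset.range (M + 1), (ucnt q (w :: ws) r : ℚ) / (q : ℚ) ^ r ≤
        ∑ j ∈ Finset.range (M + 1), (cu q j : ℚ) / (q : ℚ) ^ (w * j) * T0 := by
      calc ∑ r ∈ Finset.range (M + 1), (ucnt q (w :: ws) r : ℚ) / (q : ℚ) ^ r
          = ∑ r ∈ Finset.range (M + 1), ∑ j ∈ Finset.range (M + 1), if w * j ≤ r then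
              (cu q j : ℚ) / (q : ℚ) ^ (w * j) * ((ucnt q ws (r - w * j) : ℚ) / (q : ℚ) ^ (r - w * j)) else 0 := by
            refine Finset.sum_congr rfl fun r hr => ?_
            have hr' := Finset.mem_range.1 hr
            rw [← Finset.sum_filter, ucnt, Nat.cast_sum, Finset.sum_div]
            refine Finset.sum_congr ?_ fun j hj => ?_
            · ext j
              simp only [Finset.mem_filter, Finset.mem_range]
              have := Nat.le_mul_of_pos_left j (by omega : 0 < w)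
              omega
            · rw [Finset.mem_filter] at hj
              rw [div_mul_div_comm, ← pow_add, Nat.add_sub_cancel' hj.2, Nat.cast_mul]
        _ = ∑ j ∈ Finset.range (M + 1), ∑ r ∈ Finset.range (M + 1), if w * j ≤ r then
              (cu q j : ℚ) / (q : ℚ) ^ (w * j) * ((ucnt q ws (r - w * j) : ℚ) / (q : ℚ) ^ (r - w * j)) else 0 :=
            Finset.sum_comm
        _ ≤ _ := by
            refine Finset.sum_le_sum fun j _ => ?_
            rw [← Finset.sum_filter, ← Finset.mul_sum]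
            refine mul_le_mul_of_nonneg_left ?_ (by positivity)
            rw [show (Finset.range (M + 1)).filter (fun r => w * j ≤ r) = Finset.Ico (w * j) (M + 1) by
              ext r; simp only [Finset.mem_filter, Finset.mem_range, Finset.mem_Ico]; omega,
              Finset.sum_Ico_eq_sum_range]
            simp only [Nat.add_sub_cancel_left]
            exact Finset.sum_le_sum_of_subset_of_nonneg (Finset.range_subset_range.2 (Nat.sub_le _ _))
              fun s _ _ => by positivity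
    rw [← Finset.sum_mul] at key
    rw [List.map_cons, List.prod_cons]
    refine key.trans (mul_le_mul (sum_cu_le hq hw M) (ih M) hT0 ?_)
    exact zero_le_one.trans (one_le_fac hq hw)

theorem two_le_of_mem_downTwo : ∀ (n : ℕ), ∀ w ∈ downTwo n, 2 ≤ w
  | 0, w, h => by simp [downTwo] at h
  | 1, w, h => by simp [downTwo] at h
  | n + 2, w, h => by
    rcases List.mem_cons.1 h with rfl | h
    · omega
    · exact two_le_of_mem_downTwo (n + 1) w h

/-- Majorant of the tail of the product of the factors. -/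
def tail (q w : ℕ) : ℚ := 1 + 11 * ((q : ℚ) + 1) / (10 * ((q : ℚ) - 1)) / (q : ℚ) ^ w

theorem fac_mul_tail {q w : ℕ} (hq : 2 ≤ q) (hw : 2 ≤ w) (h : 33 + 11 * q ≤ q ^ w) :
    fac q w * tail q w ≤ tail q (w - 1) := by
  have h2 : (2 : ℚ) ≤ q := by exact_mod_cast hq
  have hp := pow_sub_pos hq hw
  have hP : (0 : ℚ) < (q : ℚ) ^ w := by positivity
  have hh : 33 + 11 * (q : ℚ) ≤ (q : ℚ) ^ w := by exact_mod_cast h
  set K : ℚ := 11 * ((q : ℚ) + 1) / (10 * ((q : ℚ) - 1)) with hK
  have hK1 : K * (10 * ((q : ℚ) - 1)) = 11 * ((q : ℚ) + 1) :=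
    div_mul_cancel₀ _ (by nlinarith)
  have hK0 : 0 < K := div_pos (by linarith) (by linarith)
  have hK3 : K ≤ 33 / 10 := by rw [hK, div_le_iff₀ (by linarith)]; linarith
  have e1 : tail q (w - 1) = 1 + K * q / (q : ℚ) ^ w := by
    rw [tail, ← hK]
    congr 1
    rw [show (q : ℚ) ^ w = (q : ℚ) ^ (w - 1) * q by rw [← pow_succ, show w - 1 + 1 = w by omega]]
    field_simp
  rw [e1, fac, tail, ← hK, div_mul_eq_mul_div, div_le_iff₀ hp]
  set P := (q : ℚ) ^ w
  have e2 : (1 + K * q / P) * (P - q) - (P + 1) * (1 + K / P) =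
      (K * (q - 1) * (P - q) - ((q : ℚ) + 1) * (P + K)) / P := by field_simp; ring
  have : 0 ≤ (K * (q - 1) * (P - q) - ((q : ℚ) + 1) * (P + K)) / P := by
    refine div_nonneg ?_ hP.le
    have e3 : K * (q - 1) = 11 / 10 * ((q : ℚ) + 1) := by linarith
    rw [e3]
    nlinarith
  linarith

theorem prod_fac_le {q W : ℕ} (hq : 2 ≤ q) (hW : 2 ≤ W) (h : 33 + 11 * q ≤ q ^ W) {n : ℕ} (hn : W - 1 ≤ n) :
    ((downTwo n).map (fac q)).prod * tail q n ≤ ((downTwo (W - 1)).map (fac q)).prod * tail q (W - 1) := by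
  induction n, hn using Nat.le_induction with
  | base => exact le_rfl
  | succ n hn ih =>
    obtain ⟨k, rfl⟩ : ∃ k, n = k + 1 := ⟨n - 1, by omega⟩
    rw [show downTwo (k + 1 + 1) = (k + 2) :: downTwo (k + 1) from rfl, List.map_cons, List.prod_cons]
    refine le_trans ?_ ih
    have hf := fac_mul_tail (q := q) (w := k + 2) hq (by omega)
      (h.trans (Nat.pow_le_pow_right (by omega) (by omega)))
    rw [show k + 2 - 1 = k + 1 by omega] at hf
    have h0 : 0 ≤ ((downTwo (k + 1)).map (fac q)).prod := by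
      refine List.prod_nonneg fun a ha => ?_
      obtain ⟨v, hv, rfl⟩ := List.mem_map.1 ha
      exact zero_le_one.trans (one_le_fac hq (two_le_of_mem_downTwo _ v hv))
    calc fac q (k + 2) * ((downTwo (k + 1)).map (fac q)).prod * tail q (k + 1 + 1)
        = ((downTwo (k + 1)).map (fac q)).prod * (fac q (k + 2) * tail q (k + 2)) := by ring
      _ ≤ _ := mul_le_mul_of_nonneg_left hf h0

/-- The general step: the total is at most `A + ((q+1)q - 1)(A - P)`. -/
theorem classSum_le_of_bound {q W n N₁ : ℕ} (hq : 2 ≤ q) (hW : 2 ≤ W) (h : 33 + 11 * q ≤ q ^ W)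
    (hn : W - 1 ≤ n) (hN : N₁ ≤ n) {A : ℚ} (hA : ((downTwo (W - 1)).map (fac q)).prod * tail q (W - 1) ≤ A)
    {P : ℚ} (hP : P ≤ ∑ r ∈ Finset.range N₁, (ucnt q (downTwo n) r : ℚ) / (q : ℚ) ^ r)
    (hfin : A + (((q : ℚ) + 1) * q - 1) * (A - P) ≤ 826 / 100) (hn1 : 1 ≤ n) :
    100 * classSum q n ≤ 826 * q ^ (n - 1) := by
  have hqp : (0 : ℚ) < q := by exact_mod_cast (by omega : 0 < q)
  set x : ℕ → ℚ := fun r => (ucnt q (downTwo n) r : ℚ) / (q : ℚ) ^ r with hx
  have hx0 : ∀ r, 0 ≤ x r := fun r => by positivity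
  have htot : ∑ r ∈ Finset.range (n + 1), x r ≤ A := by
    refine (sum_ucnt_le hq _ (two_le_of_mem_downTwo n) n).trans (le_trans ?_ ((prod_fac_le hq hW h hn).trans hA))
    refine le_mul_of_one_le_right (List.prod_nonneg fun a ha => ?_) ?_
    · obtain ⟨v, hv, rfl⟩ := List.mem_map.1 ha
      exact zero_le_one.trans (one_le_fac hq (two_le_of_mem_downTwo n v hv))
    · rw [tail]
      have h2 : (2 : ℚ) ≤ q := by exact_mod_cast hq
      have : 0 ≤ 11 * ((q : ℚ) + 1) / (10 * ((q : ℚ) - 1)) / (q : ℚ) ^ n :=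
        div_nonneg (div_nonneg (by linarith) (by linarith)) (by positivity)
      linarith
  rw [Finset.sum_range_succ] at htot
  have hPle : P ≤ ∑ r ∈ Finset.range n, x r :=
    hP.trans (Finset.sum_le_sum_of_subset_of_nonneg (Finset.range_subset_range.2 hN) fun r _ _ => hx0 r)
  set S := ∑ r ∈ Finset.range n, x r
  have hmq : ((min n (q + 1) : ℕ) : ℚ) * q ≤ ((q : ℚ) + 1) * q :=
    mul_le_mul_of_nonneg_right (by exact_mod_cast Nat.min_le_right n (q + 1)) hqp.le
  have h2 : (2 : ℚ) ≤ q := by exact_mod_cast hq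
  have hk : 0 ≤ ((q : ℚ) + 1) * q - 1 := by nlinarith
  have h3 : S + ((min n (q + 1) : ℕ) : ℚ) * q * x n ≤ 826 / 100 := by
    have h4 := mul_le_mul_of_nonneg_right hmq (hx0 n)
    have h5 := mul_le_mul_of_nonneg_left (show x n ≤ A - P by linarith) hk
    linarith
  have e : (classSum q n : ℚ) = (q : ℚ) ^ (n - 1) * (S + ((min n (q + 1) : ℕ) : ℚ) * q * x n) := by
    rw [classSum, Nat.cast_add, Nat.cast_sum, mul_add, Finset.mul_sum]
    congr 1
    · refine Finset.sum_congr rfl fun r hr => ?_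
      have := Finset.mem_range.1 hr
      rw [hx, Nat.cast_mul, Nat.cast_pow]
      field_simp
      rw [mul_right_comm, ← pow_add, show n - 1 - r + r = n - 1 by omega]
      ring
    · rw [hx, Nat.cast_mul]
      simp only []
      rw [show (q : ℚ) ^ n = (q : ℚ) ^ (n - 1) * q by rw [← pow_succ, show n - 1 + 1 = n by omega]]
      field_simp
  have h6 : (100 : ℚ) * classSum q n ≤ 826 * (q : ℚ) ^ (n - 1) := by
    rw [e]
    have := mul_le_mul_of_nonneg_left h3 (pow_nonneg hqp.le (n - 1))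
    nlinarith
  exact_mod_cast h6

theorem classSum_two_small : ∀ n, n < 13 → 100 * classSum 2 n ≤ 826 * 2 ^ (n - 1) := by
  decide +kernel

theorem classSum_two_prefix :
    (497 : ℚ) / 100 ≤ ∑ r ∈ Finset.range 13, (ucnt 2 (downTwo 12) r : ℚ) / (2 : ℚ) ^ r := by
  have e : ∀ r, r < 13 → ucnt 2 (downTwo 12) r = [1, 0, 3, 3, 9, 12, 30, 39, 87, 123, 237, 345, 636].getD r 0 := by
    decide +kernel
  rw [Finset.sum_congr rfl fun r hr => by rw [e r (Finset.mem_range.1 hr)]]
  norm_num [Finset.sum_range_succ]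

theorem classSum_le {q n : ℕ} (hq : 2 ≤ q) (hn : 2 ≤ n) : 100 * classSum q n ≤ 826 * q ^ (n - 1) := by
  rcases Nat.lt_or_ge q 3 with h3 | h3
  · obtain rfl : q = 2 := by omega
    rcases Nat.lt_or_ge n 13 with h | h
    · exact classSum_two_small n h
    refine classSum_le_of_bound (W := 10) (N₁ := 13) le_rfl (by norm_num) (by norm_num) (by omega) h
      (A := 551 / 100) ?_ (P := ∑ r ∈ Finset.range 13, (ucnt 2 (downTwo 12) r : ℚ) / (2 : ℚ) ^ r) ?_ ?_ (by omega)
    · norm_num [downTwo, fac, tail]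
    · refine le_of_eq (Finset.sum_congr rfl fun r hr => ?_)
      rw [ucnt_downTwo_stable 2 n 12 (by have := Finset.mem_range.1 hr; omega) (by omega) (by norm_num)]
      norm_num
    · have := classSum_two_prefix
      push_cast
      linarith
  rcases Nat.lt_or_ge n 4 with h | h
  · interval_cases n
    · simp [classSum, ucnt, downTwo, Finset.sum_range_succ, Finset.sum_filter, cu,
        show min 2 (q + 1) = 2 by omega]
      omega
    · simp [classSum, ucnt, downTwo, Finset.sum_range_succ, Finset.sum_filter, cu,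
        show min 3 (q + 1) = 3 by omega]
      nlinarith
  have h33 : 33 + 11 * q ≤ q ^ 4 := by
    have : 27 * q ≤ q ^ 4 := by
      calc 27 * q ≤ q ^ 3 * q := Nat.mul_le_mul (by nlinarith [Nat.mul_le_mul h3 h3]) le_rfl
        _ = q ^ 4 := by ring
    omega
  refine classSum_le_of_bound (W := 4) (N₁ := 4) hq (by norm_num) h33 (by omega) h
    (A := fac q 3 * fac q 2 * tail q 3) (le_of_eq (by simp [downTwo]))
    (P := 1 + ((q : ℚ) + 1) / (q : ℚ) ^ 2 + ((q : ℚ) + 1) / (q : ℚ) ^ 3) ?_ ?_ (by omega)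
  · refine le_of_eq ?_
    have e : ∀ r, r ≤ 3 → ucnt q (downTwo n) r = ucnt q (downTwo 3) r := fun r hr =>
      ucnt_downTwo_stable q n 3 hr (by omega) (by norm_num)
    simp only [Finset.sum_range_succ, Finset.sum_range_zero, e 0 (by norm_num), e 1 (by norm_num),
      e 2 (by norm_num), e 3 le_rfl]
    simp [ucnt, downTwo, Finset.sum_range_succ, Finset.sum_filter, cu]
  · obtain ⟨t, rfl⟩ : ∃ t, q = t + 3 := ⟨q - 3, by omega⟩
    have ht : (0 : ℚ) ≤ t := Nat.cast_nonneg t
    simp only [fac, tail]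
    push_cast
    generalize (t : ℚ) = u at ht ⊢
    have hu2 : u + 2 ≠ 0 := by linarith
    have hu3 : u + 3 ≠ 0 := by linarith
    have e3 : (u + 3) ^ 3 - (u + 3) = (u + 3) * (u + 2) * (u + 4) := by ring
    have e2 : (u + 3) ^ 2 - (u + 3) = (u + 3) * (u + 2) := by ring
    have e1 : (u + 3) ^ 3 + 1 = (u + 4) * ((u + 3) ^ 2 - (u + 3) + 1) := by ring
    have hu4 : u + 4 ≠ 0 := by linarith
    have e4 : (u + 4) * ((u + 3) ^ 2 - (u + 3) + 1) / ((u + 3) * (u + 2) * (u + 4)) =
        ((u + 3) ^ 2 - (u + 3) + 1) / ((u + 3) * (u + 2)) := by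
      rw [mul_comm (u + 4), mul_div_mul_right _ _ hu4]
    rw [e1, e3, e4, e2, show u + 3 - 1 = u + 2 by ring, show u + 3 + 1 = u + 4 by ring, ← sub_nonneg]
    field_simp
    ring_nf
    positivity

end Cfsg.Agent.UnitaryClassCount
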