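import Cfsg.Agent.Lib.UnitaryClassCount.Star
import Cfsg.Agent.Lib.UnitaryClassCount.Series
import Cfsg.Agent.Lib.SLComm.SLBound
import Cfsg.Agent.Lib.FormClasses.Count
/-!
Counting conjugate-reciprocal monic polynomials and tuples of them.
-/
set_option autoImplicit false
set_option linter.unusedVariables false
set_option linter.unusedSectionVars false

namespace Cfsg.Agent.UnitaryClassCount

open Polynomial SLComm

variable {F : Type*} [Field F] [Fintype F] {q : ℕ} (hF : Fintype.card F = q ^ 2)

/-- Conjugate-reciprocal monic polynomials of degree `j` with constant term in `S`. -/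
def monicU (j : ℕ) (S : Set F) : Set F[X] :=
  {P | P.Monic ∧ P.natDegree = j ∧ P.coeff 0 ≠ 0 ∧ starP (Unitary.conjHom hF) P = P ∧ P.coeff 0 ∈ S}

theorem monicU_finite (j : ℕ) (S : Set F) : (monicU hF j S).Finite :=
  (monicNe_finite_card (F := F) j).1.subset fun P hP => ⟨hP.1, hP.2.1, hP.2.2.1⟩

theorem coeff_zero_norm {P : F[X]} (hm : P.Monic) (h0 : P.coeff 0 ≠ 0)
    (hs : starP (Unitary.conjHom hF) P = P) : P.coeff 0 ^ (q + 1) = 1 := by
  have h := coeff_zero_starP (Unitary.conjHom hF) hm h0
  rw [hs] at h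
  rw [pow_succ, show P.coeff 0 ^ q = (Unitary.conjHom hF) (P.coeff 0) from rfl]
  nth_rewrite 2 [h]
  exact mul_inv_cancel₀ fun e => h0 ((map_eq_zero _).1 e)

theorem ncard_monicU_singleton (j : ℕ) (c : F) : (monicU hF (j + 1) {c}).ncard ≤ q ^ j := by
  classical
  by_cases hne : (monicU hF (j + 1) {c}).Nonempty
  swap
  · rw [Set.not_nonempty_iff_eq_empty.1 hne]; simp
  obtain ⟨P₀, hP₀⟩ := hne
  have hc : c ^ (q + 1) = 1 := by
    rw [← Set.mem_singleton_iff.1 hP₀.2.2.2.2]
    exact coeff_zero_norm hF hP₀.1 hP₀.2.2.1 hP₀.2.2.2.1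
  let T : (Fin j → F) → (Fin j → F) := fun v i => c * v (Fin.rev i) ^ q
  rw [← FormClasses.card_semilinear_fixed hF j T (fun x y => funext fun i => by
      simp only [T, Pi.add_apply, Unitary.add_pow_q hF]; ring)
    (fun a x => funext fun i => by simp only [T, Pi.smul_apply, smul_eq_mul, mul_pow]; ring)
    (fun x => funext fun i => by
      simp only [T, Fin.rev_rev, mul_pow, Unitary.pow_q_pow_q hF]
      rw [← mul_assoc, ← pow_succ', hc, one_mul]), ← Nat.card_coe_set_eq]
  have hcq : c = ((Unitary.conjHom hF) c)⁻¹ := by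
    refine eq_inv_of_mul_eq_one_left ?_
    rw [show (Unitary.conjHom hF) c = c ^ q from rfl, ← pow_succ', hc]
  refine Nat.card_le_card_of_injective (fun P => ⟨fun i => P.1.coeff (i.val + 1), funext fun i => ?_⟩) ?_
  · obtain ⟨hm, hd, h0, hs, hcm⟩ := P.2
    have h := coeff_starP (Unitary.conjHom hF) (P := P.1) (i := i.val + 1) (by omega)
    rw [hs, hd, Set.mem_singleton_iff.1 hcm, ← hcq] at h
    simp only [T]
    rw [h, Fin.val_rev]
    have e : j + 1 - (i.val + 1) = j - (i.val + 1) + 1 := by omega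
    exact congrArg (fun k => c * (P.1.coeff k) ^ q) e.symm
  · intro P R he
    obtain ⟨hm, hd, h0, hs, hcm⟩ := P.2
    obtain ⟨hm', hd', h0', hs', hcm'⟩ := R.2
    refine Subtype.ext (Polynomial.ext fun i => ?_)
    rcases lt_trichotomy i (j + 1) with hi | rfl | hi
    · rcases i with _ | i
      · rw [Set.mem_singleton_iff.1 hcm, Set.mem_singleton_iff.1 hcm']
      · exact congrFun (congrArg Subtype.val he) ⟨i, by omega⟩
    · have e1 := hm.coeff_natDegree
      have e2 := hm'.coeff_natDegree
      rw [hd] at e1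
      rw [hd'] at e2
      rw [e1, e2]
    · rw [coeff_eq_zero_of_natDegree_lt (by omega), coeff_eq_zero_of_natDegree_lt (by omega)]

theorem ncard_monicU (j : ℕ) : (monicU hF j Set.univ).ncard ≤ cu q j := by
  classical
  cases j with
  | zero =>
    refine (Set.ncard_le_ncard (t := {1}) (fun P hP => ?_) (Set.finite_singleton _)).trans
      (by rw [Set.ncard_singleton]; rfl)
    exact hP.1.natDegree_eq_zero.1 hP.2.1
  | succ j =>
    have hsub : monicU hF (j + 1) Set.univ ⊆
        ⋃ c ∈ (Finset.univ.filter fun x : F => x ^ (q + 1) = 1), monicU hF (j + 1) {c} := by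
      intro P hP
      refine Set.mem_iUnion₂.2 ⟨P.coeff 0, ?_, hP.1, hP.2.1, hP.2.2.1, hP.2.2.2.1, rfl⟩
      simp only [Finset.mem_filter, Finset.mem_univ, true_and]
      exact coeff_zero_norm hF hP.1 hP.2.2.1 hP.2.2.2.1
    refine (Set.ncard_le_ncard hsub ((Finset.finite_toSet _).biUnion fun c _ => monicU_finite hF _ _)).trans ?_
    refine (Finset.set_ncard_biUnion_le _ _).trans ?_
    refine (Finset.sum_le_card_nsmul _ _ (q ^ j) fun c _ => ncard_monicU_singleton hF j c).trans (le_of_eq ?_)
    rw [smul_eq_mul]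
    show _ = (q + 1) * q ^ j
    congr 1
    rw [← Fintype.card_subtype, ← Nat.card_eq_fintype_card, Unitary.card_norm_one hF]

/-- Tuples of conjugate-reciprocal polynomials of weighted degree `n`. -/
def uTupSet (ws : List ℕ) (n : ℕ) : Set (ℕ → F[X]) :=
  {f ∈ tupSet F ws n | ∀ i, starP (Unitary.conjHom hF) (f i) = f i}

theorem uTupSet_card : ∀ (ws : List ℕ), ws.Nodup → (∀ w ∈ ws, 0 < w) → ∀ n,
    (uTupSet hF ws n).Finite ∧ (uTupSet hF ws n).ncard ≤ ucnt q ws n
  | [], hnd, hpos, n => by
    have hfin := (tupSet_finite_card (F := F) [] hnd hpos n).1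
    refine ⟨hfin.subset (Set.sep_subset _ _), ?_⟩
    refine (Set.ncard_le_ncard (Set.sep_subset _ _) hfin).trans
      ((tupSet_finite_card (F := F) [] hnd hpos n).2.trans (le_of_eq ?_))
    simp [cnt, ucnt]
  | w :: ws, hnd, hpos, n => by
    classical
    refine ⟨(tupSet_finite_card (F := F) (w :: ws) hnd hpos n).1.subset (Set.sep_subset _ _), ?_⟩
    obtain ⟨hw, hnd'⟩ := List.nodup_cons.1 hnd
    have hpos' : ∀ x ∈ ws, 0 < x := fun x hx => hpos x (List.mem_cons_of_mem _ hx)
    have ih := fun m => uTupSet_card ws hnd' hpos' m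
    set J := (Finset.range (n + 1)).filter (fun j => w * j ≤ n)
    have hsub : uTupSet hF (w :: ws) n ⊆ ⋃ j ∈ J,
        (fun x : F[X] × (ℕ → F[X]) => Function.update x.2 w x.1) ''
          (monicU hF j Set.univ ×ˢ uTupSet hF ws (n - w * j)) := by
      rintro f ⟨⟨h1, h2, h3⟩, h4⟩
      rw [List.map_cons, List.sum_cons] at h3
      refine Set.mem_iUnion₂.2 ⟨(f w).natDegree, ?_, (f w, Function.update f w 1),
        ⟨⟨(h2 w).1, rfl, (h2 w).2, h4 w, Set.mem_univ _⟩, ⟨?_, ?_, ?_⟩, ?_⟩, ?_⟩
      · have hwj := Nat.le_mul_of_pos_left (f w).natDegree (hpos w List.mem_cons_self)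
        simp only [J, Finset.mem_filter, Finset.mem_range]
        omega
      · intro i hi
        dsimp only
        by_cases e : i = w
        · subst e; simp
        · rw [Function.update_of_ne e]
          exact h1 i (by simp [e, hi])
      · intro i
        dsimp only
        by_cases e : i = w
        · subst e; simp
        · rw [Function.update_of_ne e]; exact h2 i
      · dsimp only
        rw [show ws.map (fun x => x * ((Function.update f w 1) x).natDegree) = ws.map fun x => x * (f x).natDegree from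
          List.map_congr_left fun x hx => by rw [Function.update_of_ne (fun (e : x = w) => hw (e ▸ hx))]]
        omega
      · intro i
        dsimp only
        by_cases e : i = w
        · subst e; simp [starP_one]
        · rw [Function.update_of_ne e]; exact h4 i
      · simp
    have hfin : ∀ j ∈ J, ((fun x : F[X] × (ℕ → F[X]) => Function.update x.2 w x.1) ''
        (monicU hF j Set.univ ×ˢ uTupSet hF ws (n - w * j))).Finite := fun j _ =>
      ((monicU_finite hF j _).prod (ih _).1).image _
    refine (Set.ncard_le_ncard hsub (J.finite_toSet.biUnion hfin)).trans ?_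
    refine (Finset.set_ncard_biUnion_le J _).trans ?_
    rw [ucnt]
    refine Finset.sum_le_sum fun j hj => ?_
    refine (Set.ncard_image_le ((monicU_finite hF j _).prod (ih _).1)).trans ?_
    rw [Set.ncard_prod]
    exact Nat.mul_le_mul (ncard_monicU hF j) (ih _).2

theorem mem_uTupSet_downTwo {n r : ℕ} (hn : 1 ≤ n) {f : ℕ → F[X]} (hf : f ∈ uTupSet hF (down n) n)
    (hr : n = (f 1).natDegree + r) : Function.update f 1 1 ∈ uTupSet hF (downTwo n) r := by
  obtain ⟨hf, h4⟩ := hf
  obtain ⟨h1, h2, h3⟩ := mem_tupSet_down.1 hf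
  refine ⟨⟨fun i hi => ?_, fun i => ?_, ?_⟩, fun i => ?_⟩
  · by_cases e : i = 1
    · subst e; simp
    · rw [Function.update_of_ne e]
      rw [(downTwo_nodup n).2] at hi
      exact h1 i (by omega)
  · by_cases e : i = 1
    · subst e; simp
    · rw [Function.update_of_ne e]; exact h2 i
  · rw [sum_downTwo, Finset.sum_congr rfl (g := fun i => i * (f i).natDegree) fun i hi => by
      rw [Function.update_of_ne (by have := Finset.mem_Icc.1 hi; omega)]]
    rw [Icc_one n hn, Finset.sum_insert (by simp), one_mul] at h3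
    omega
  · by_cases e : i = 1
    · subst e; simp [starP_one]
    · rw [Function.update_of_ne e]; exact h4 i

theorem downTwo_pos (n : ℕ) : ∀ w ∈ downTwo n, 0 < w := fun w hw =>
  lt_of_lt_of_le (by norm_num) (two_le_of_mem_downTwo n w hw)

theorem uTupSet_one_le (n : ℕ) (hn : 1 ≤ n) :
    {f ∈ uTupSet hF (down n) n | f 1 = 1}.ncard ≤ ucnt q (downTwo n) n := by
  have h := uTupSet_card hF (downTwo n) (downTwo_nodup n).1 (downTwo_pos n) n
  refine (Set.ncard_le_ncard (fun f hf => ?_) h.1).trans h.2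
  have := mem_uTupSet_downTwo hF hn hf.1 (r := n) (by rw [hf.2, natDegree_one, zero_add])
  rwa [← hf.2, Function.update_eq_self] at this

theorem uTupSet_ne_one_le (n : ℕ) (hn : 1 ≤ n) :
    {f ∈ uTupSet hF (down n) n | f 1 ≠ 1 ∧ tdet n f = 1}.ncard ≤
      ∑ r ∈ Finset.range n, q ^ (n - 1 - r) * ucnt q (downTwo n) r := by
  classical
  have hR : ∀ r, (uTupSet hF (downTwo n) r).Finite := fun r =>
    (uTupSet_card hF (downTwo n) (downTwo_nodup n).1 (downTwo_pos n) r).1
  let forced : ℕ → (ℕ → F[X]) → F := fun r R =>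
    (-1) ^ (n - r) * (∏ i ∈ Finset.Icc 2 n, tdet.cdetT (R i) ^ i)⁻¹
  have hsub : {f ∈ uTupSet hF (down n) n | f 1 ≠ 1 ∧ tdet n f = 1} ⊆
      ⋃ r ∈ Finset.range n, ⋃ R ∈ (hR r).toFinset,
        (fun P => Function.update R 1 P) '' monicU hF (n - r - 1 + 1) {forced r R} := by
    rintro f ⟨hf, hne, hdet⟩
    obtain ⟨h1, h2, h3⟩ := mem_tupSet_down.1 hf.1
    have hd0 : 0 < (f 1).natDegree := Nat.pos_of_ne_zero fun e => hne ((h2 1).1.natDegree_eq_zero.1 e)
    have hle : (f 1).natDegree ≤ n := by
      rw [Icc_one n hn, Finset.sum_insert (by simp), one_mul] at h3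
      omega
    set r := n - (f 1).natDegree with hr
    refine Set.mem_iUnion₂.2 ⟨r, Finset.mem_range.2 (by omega), Set.mem_iUnion₂.2
      ⟨Function.update f 1 1, (hR r).mem_toFinset.2 (mem_uTupSet_downTwo hF hn hf (by omega)), f 1,
        ⟨(h2 1).1, by omega, (h2 1).2, hf.2 1, ?_⟩, by simp⟩⟩
    rw [tdet, Icc_one n hn, Finset.prod_insert (by simp), pow_one] at hdet
    simp only [forced, Set.mem_singleton_iff]
    rw [show n - r = (f 1).natDegree by omega, Finset.prod_congr rfl (g := fun i => tdet.cdetT (f i) ^ i) fun i hi => by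
      rw [Function.update_of_ne (by have := Finset.mem_Icc.1 hi; omega)],
      eq_inv_of_mul_eq_one_left hdet |>.symm, tdet.cdetT, ← mul_assoc, ← mul_pow]
    simp
  have hfin : ∀ r, (⋃ R ∈ (hR r).toFinset,
      (fun P => Function.update R 1 P) '' monicU hF (n - r - 1 + 1) {forced r R}).Finite := fun r =>
    (Finset.finite_toSet _).biUnion fun R _ => (monicU_finite hF _ _).image _
  refine (Set.ncard_le_ncard hsub ((Finset.finite_toSet _).biUnion fun r _ => hfin r)).trans ?_
  refine (Finset.set_ncard_biUnion_le _ _).trans (Finset.sum_le_sum fun r hr => ?_)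
  refine (Finset.set_ncard_biUnion_le _ _).trans ?_
  refine (Finset.sum_le_card_nsmul _ _ (q ^ (n - 1 - r)) fun R _ => ?_).trans ?_
  · refine (Set.ncard_image_le (monicU_finite hF _ _)).trans ((ncard_monicU_singleton hF _ _).trans ?_)
    rw [show n - r - 1 = n - 1 - r by omega]
  · rw [smul_eq_mul, mul_comm]
    refine Nat.mul_le_mul le_rfl ?_
    rw [← Set.ncard_eq_toFinset_card _ (hR r)]
    exact (uTupSet_card hF (downTwo n) (downTwo_nodup n).1 (downTwo_pos n) r).2

end Cfsg.Agent.UnitaryClassCount
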