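import Cfsg.Agent.Lib.UnitaryClassCount.Data
import Cfsg.Agent.Lib.UnitaryClassCount.Tuples
import Cfsg.Agent.Lib.FormClasses.Groups
import Cfsg.Agent.S2587
/-!
The number of conjugacy classes of `SU_n(q)` is at most `classSum q n`.
-/
set_option autoImplicit false
set_option linter.unusedVariables false
set_option linter.unusedSectionVars false

namespace Cfsg.Agent.UnitaryClassCount

open Polynomial Matrix SLComm

variable {F : Type*} [Field F] [Fintype F] {q n : ℕ} (hF : Fintype.card F = q ^ 2)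
include hF

/-- The matrix of an element of `SU`. -/
local notation "matOf" g => ((g : Matrix.SpecialLinearGroup (Fin n) F) : Matrix (Fin n) (Fin n) F)

theorem setting_SU (g : Cfsg.SU n F q) :
    Setting (Unitary.conjHom hF) (orderOf g) (Cfsg.hermForm n F q) (Matrix.toLin' (matOf g)) := by
  obtain ⟨a₀, ha₀⟩ := UnitaryConj.exists_moved hF
  have hh := Unitary.hermForm_isHerm (n := n) hF
  exact
    { form :=
        { add_left := hh.add_left
          smul_left := hh.smul_left
          symm := fun x y => by rw [one_mul]; exact hh.conj_symm x y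
          alt := fun hid => absurd (sub_eq_zero.2 (hid a₀)) ha₀ }
      isom := FormClasses.toLin_isIsom (Unitary.SU_apply g) (by
        rw [← Matrix.SpecialLinearGroup.coe_pow, ← SubmonoidClass.coe_pow, pow_orderOf_eq_one]; rfl)
      pos := orderOf_pos g
      invol := Unitary.pow_q_pow_q hF
      moved := ⟨a₀, fun h => ha₀ (sub_eq_zero.2 h)⟩
      nondeg := Unitary.hermForm_nondeg hF n }

/-- The pairs of an element of `SU`. -/
noncomputable def uPairs (g : Cfsg.SU n F q) : List (F[X] × ℕ) :=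
  Classical.choose (exists_data (setting_SU hF g))

theorem uPairs_spec (g : Cfsg.SU n F q) :
    PairsOk (uPairs hF g) ∧ Sim (Matrix.toLin' (matOf g)) (dcyc (blocks (uPairs hF g))) ∧
      pdeg (uPairs hF g) = n ∧
      (∀ i, starP (Unitary.conjHom hF) (tupOf (uPairs hF g) i) = tupOf (uPairs hF g) i) ∧
      ∀ x ∈ uPairs hF g, ∀ z : F, z * z ^ q = 1 → ∃ T : (Fin n → F) ≃ₗ[F] (Fin n → F),
        (∀ u w, Cfsg.hermForm n F q (T u) (T w) = Cfsg.hermForm n F q u w) ∧
        (∀ u, T (Matrix.toLin' (matOf g) u) = Matrix.toLin' (matOf g) (T u)) ∧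
        LinearMap.det (T : Module.End F (Fin n → F)) = z ^ x.2 := by
  obtain ⟨h1, h2, h3, h4, h5⟩ := Classical.choose_spec (exists_data (setting_SU hF g))
  exact ⟨h1, h2, h3.trans (Module.finrank_fin_fun F), h4, h5⟩

/-- The tuple of an element of `SU`. -/
noncomputable def uTup (g : Cfsg.SU n F q) : ℕ → F[X] := tupOf (uPairs hF g)

theorem uTup_mem (g : Cfsg.SU n F q) : uTup hF g ∈ uTupSet hF (down n) n := by
  obtain ⟨h1, h2, h3, h4, -⟩ := uPairs_spec hF g
  refine ⟨?_, h4⟩
  have := tupOf_mem_tupSet h1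
  rwa [h3] at this

theorem tdet_uTup (g : Cfsg.SU n F q) : tdet n (uTup hF g) = 1 := by
  obtain ⟨hok, hs, hp, -⟩ := uPairs_spec hF g
  rw [uTup, prod_cdetT_tupOf hok fun x hx => hp ▸ le_pdeg hok hx, ← det_dcyc fun h hh => by
    obtain ⟨x, hx, rfl⟩ := List.mem_map.1 hh
    exact (hok x hx).2.1.pow _, ← hs.det_eq, LinearMap.det_toLin']
  exact (g : Matrix.SpecialLinearGroup (Fin n) F).2

theorem det_GU_norm (y : Cfsg.GU n F q) :
    Matrix.GeneralLinearGroup.det (y : GL (Fin n) F) ^ (q + 1) = 1 := by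
  have h := (UnitaryConj.mem_GU_iff_adj hF (y : GL (Fin n) F)).1 y.2
  have h' := congrArg Matrix.det h
  rw [Matrix.det_mul, Matrix.det_one, UnitaryConj.adj, Matrix.det_transpose] at h'
  refine Units.ext ?_
  rw [Units.val_pow_eq_pow_val, Units.val_one, pow_succ, Matrix.GeneralLinearGroup.val_det_apply]
  refine Eq.trans ?_ h'
  congr 1
  exact (RingHom.map_det (Unitary.conjHom hF) _)

open Classical in
theorem card_fibre (hn : 1 ≤ n) (f : ℕ → F[X]) :
    Nat.card {c : ConjClasses (Cfsg.SU n F q) // uTup hF c.out = f} ≤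
      if f 1 = 1 then min n (q + 1) else 1 := by
  classical
  by_cases hne : Nonempty {c : ConjClasses (Cfsg.SU n F q) // uTup hF c.out = f}
  swap
  · rw [not_nonempty_iff] at hne
    simp
  obtain ⟨c₀, hc₀⟩ := hne
  set r := c₀.out with hr
  obtain ⟨hok, hs, hp, -, hT⟩ := uPairs_spec hF r
  obtain ⟨x₀, hx₀, hx₀1⟩ : ∃ x ∈ uPairs hF r, f 1 = 1 ∨ x.2 = 1 := by
    by_cases hf : f 1 = 1
    · rcases hps : uPairs hF r with _ | ⟨x, l⟩
      · exfalso
        rw [hps] at hp
        simp [pdeg] at hp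
        omega
      · exact ⟨x, List.mem_cons_self, Or.inl hf⟩
    · by_contra hno
      push Not at hno
      refine hf ?_
      rw [← hc₀, uTup]
      exact tupOf_eq_one fun x hx => (hno x hx).2
  set e := x₀.2
  let μ : Subgroup Fˣ := (powMonoidHom (q + 1) : Fˣ →* Fˣ).ker
  let D : Subgroup μ := (powMonoidHom e : μ →* μ).range
  have hμ : Nat.card μ = q + 1 := by
    show Nat.card ↥((powMonoidHom (q + 1) : Fˣ →* Fˣ).ker) = q + 1
    rw [IsCyclic.card_powMonoidHom_ker, Unitary.card_units hF, Nat.gcd_eq_right (Unitary.q_succ_dvd q)]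
  have hD : Nat.card (μ ⧸ D) = Nat.gcd (q + 1) e := by
    have h1 := D.card_mul_index
    rw [IsCyclic.card_powMonoidHom_range, hμ] at h1
    rw [← Subgroup.index_eq_card]
    refine Nat.eq_of_mul_eq_mul_left ?_ (h1.trans (Nat.div_mul_cancel (Nat.gcd_dvd_left _ _)).symm)
    exact Nat.div_pos (Nat.le_of_dvd (by omega) (Nat.gcd_dvd_left _ _))
      (Nat.gcd_pos_of_pos_left _ (by omega))
  have hconj : ∀ c : {c : ConjClasses (Cfsg.SU n F q) // uTup hF c.out = f},
      ∃ y : Cfsg.GU n F q, y * Unitary.suToGU n F q r * y⁻¹ = Unitary.suToGU n F q c.1.out := by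
    intro c
    obtain ⟨hok', hs', -⟩ := uPairs_spec hF c.1.out
    refine isConj_iff.1 ((S2587.result hF _ _).2 (isConj_of_sim ?_))
    exact hs.trans ((dcyc_perm (blocks_perm (perm_of_tupOf_eq hok hok' (hc₀.trans c.2.symm)))).trans hs'.symm)
  choose y hy using hconj
  let Ψ : {c : ConjClasses (Cfsg.SU n F q) // uTup hF c.out = f} → μ ⧸ D := fun c =>
    QuotientGroup.mk (⟨Matrix.GeneralLinearGroup.det (y c : GL (Fin n) F), det_GU_norm hF (y c)⟩ : μ)
  have hinj : Function.Injective Ψ := by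
    intro c d he
    have hm := QuotientGroup.eq.1 he
    obtain ⟨z, hz⟩ := MonoidHom.mem_range.1 hm
    have hz' : ((z : Fˣ) : F) * ((z : Fˣ) : F) ^ q = 1 := by
      rw [← pow_succ', ← Units.val_pow_eq_pow_val, show (z : Fˣ) ^ (q + 1) = 1 from z.2, Units.val_one]
    obtain ⟨T, hTi, hTc, hTd⟩ := hT x₀ hx₀ _ hz'
    let M : Matrix (Fin n) (Fin n) F := LinearMap.toMatrix' (T : Module.End F (Fin n → F))
    have hMd : M.det = ((z : Fˣ) : F) ^ e := by rw [LinearMap.det_toMatrix', hTd]
    let Z : GL (Fin n) F := Matrix.GeneralLinearGroup.mkOfDetNeZero M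
      (by rw [hMd]; exact pow_ne_zero _ (Units.ne_zero _))
    have hZ : Z ∈ Cfsg.GU n F q := (Unitary.mem_GU_iff Z).2 fun u v => by
      show Cfsg.hermForm n F q (M *ᵥ u) (M *ᵥ v) = _
      rw [LinearMap.toMatrix'_mulVec, LinearMap.toMatrix'_mulVec]
      exact hTi u v
    let Z' : Cfsg.GU n F q := ⟨Z, hZ⟩
    have hZr : Z' * Unitary.suToGU n F q r = Unitary.suToGU n F q r * Z' := by
      refine Subtype.ext (Units.ext (Matrix.toLin'.injective (LinearMap.ext fun v => ?_)))
      show Matrix.toLin' (M * matOf r) v = Matrix.toLin' ((matOf r) * M) v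
      rw [Matrix.toLin'_mul, Matrix.toLin'_mul]
      simp only [M, Matrix.toLin'_toMatrix', LinearMap.comp_apply]
      exact hTc v
    have hZd : Matrix.GeneralLinearGroup.det Z =
        (Matrix.GeneralLinearGroup.det (y c : GL (Fin n) F))⁻¹ *
          Matrix.GeneralLinearGroup.det (y d : GL (Fin n) F) := by
      have h2 := congrArg (fun u : μ => (u : Fˣ)) hz
      simp only [powMonoidHom_apply, SubgroupClass.coe_pow, Subgroup.coe_mul, Subgroup.coe_inv] at h2
      rw [← h2]
      refine Units.ext ?_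
      rw [Units.val_pow_eq_pow_val, ← hMd]
      rfl
    set w := y d * Z'⁻¹ * (y c)⁻¹ with hw
    have hw1 : Matrix.GeneralLinearGroup.det (w : GL (Fin n) F) = 1 := by
      rw [hw, Subgroup.coe_mul, Subgroup.coe_mul, Subgroup.coe_inv, Subgroup.coe_inv, map_mul, map_mul,
        map_inv, map_inv, show ((Z' : Cfsg.GU n F q) : GL (Fin n) F) = Z from rfl, hZd,
        _root_.mul_inv_rev, inv_inv, mul_inv_cancel_left, mul_inv_cancel]
    obtain ⟨W, hW⟩ : w ∈ (Unitary.suToGU n F q).range := by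
      rw [Unitary.range_suToGU, MonoidHom.mem_ker]
      exact Units.ext (congrArg Units.val hw1)
    refine Subtype.ext ?_
    rw [← Quotient.out_eq c.1, ← Quotient.out_eq d.1]
    refine Quotient.sound (isConj_iff.2 ⟨W, Unitary.suToGU_injective ?_⟩)
    rw [map_mul, map_mul, map_inv, hW, hw, ← hy c, ← hy d]
    have hZ2 : Z'⁻¹ * Unitary.suToGU n F q r * Z' = Unitary.suToGU n F q r := by
      rw [mul_assoc, ← hZr, inv_mul_cancel_left]
    calc y d * Z'⁻¹ * (y c)⁻¹ * (y c * Unitary.suToGU n F q r * (y c)⁻¹) * (y d * Z'⁻¹ * (y c)⁻¹)⁻¹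
        = y d * (Z'⁻¹ * Unitary.suToGU n F q r * Z') * (y d)⁻¹ := by group
      _ = _ := by rw [hZ2]
  refine (Nat.card_le_card_of_injective Ψ hinj).trans (le_of_eq_of_le hD ?_)
  have hepos : 0 < e := (hok x₀ hx₀).2.2.1
  split_ifs with hf
  · exact le_min ((Nat.le_of_dvd hepos (Nat.gcd_dvd_right _ _)).trans (hp ▸ le_pdeg hok hx₀))
      (Nat.le_of_dvd (Nat.succ_pos q) (Nat.gcd_dvd_left _ _))
  · rw [hx₀1.resolve_left hf, Nat.gcd_one_right]

theorem card_classes_SU_le (hn : 1 ≤ n) :
    Nat.card (ConjClasses (Cfsg.SU n F q)) ≤ classSum q n := by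
  classical
  set S : Set (ℕ → F[X]) := {f ∈ uTupSet hF (down n) n | tdet n f = 1} with hS
  have hSfin : S.Finite := (uTupSet_card hF (down n) (down_nodup n).1 (down_pos n) n).1.subset (Set.sep_subset _ _)
  haveI := Fintype.ofFinite (ConjClasses (Cfsg.SU n F q))
  rw [Nat.card_eq_fintype_card, ← Finset.card_univ,
    Finset.card_eq_sum_card_fiberwise (f := fun c : ConjClasses (Cfsg.SU n F q) => uTup hF c.out)
      (t := hSfin.toFinset) fun c _ => hSfin.mem_toFinset.2 ⟨uTup_mem hF _, tdet_uTup hF _⟩]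
  refine (Finset.sum_le_sum (g := fun f => if f 1 = 1 then min n (q + 1) else 1) fun f _ => ?_).trans ?_
  · refine le_trans (le_of_eq ?_) (card_fibre hF hn f)
    rw [Nat.card_eq_fintype_card, Fintype.card_subtype]
  rw [Finset.sum_ite, Finset.sum_const, Finset.sum_const, smul_eq_mul, smul_eq_mul, mul_one, classSum, add_comm]
  refine Nat.add_le_add ?_ ?_
  · refine le_trans ?_ (uTupSet_ne_one_le hF n hn)
    rw [← Set.ncard_coe_finset]
    refine Set.ncard_le_ncard (fun f hf => ?_)
      ((uTupSet_card hF (down n) (down_nodup n).1 (down_pos n) n).1.subset (Set.sep_subset _ _))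
    simp only [Finset.coe_filter, Set.Finite.mem_toFinset, hS, Set.mem_setOf_eq] at hf
    exact ⟨hf.1.1, hf.2, hf.1.2⟩
  · rw [mul_comm]
    refine Nat.mul_le_mul le_rfl (le_trans ?_ (uTupSet_one_le hF n hn))
    rw [← Set.ncard_coe_finset]
    refine Set.ncard_le_ncard (fun f hf => ?_)
      ((uTupSet_card hF (down n) (down_nodup n).1 (down_pos n) n).1.subset (Set.sep_subset _ _))
    simp only [Finset.coe_filter, Set.Finite.mem_toFinset, hS, Set.mem_setOf_eq] at hf
    exact ⟨hf.1.1, hf.2⟩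

end Cfsg.Agent.UnitaryClassCount
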