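import Cfsg.Agent.Lib.UnitaryClassCount.Piece
import Cfsg.Agent.Lib.SLComm.SLClasses
import Cfsg.Agent.Lib.FormClasses.Det
/-!
The data of an isometry of a hermitian form: a conjugate-reciprocal list of primary pairs, and the
determinants of its unitary centraliser (`exists_data`).
-/
set_option autoImplicit false
set_option linter.unusedVariables false
set_option linter.unusedSectionVars false

namespace Cfsg.Agent.UnitaryClassCount

open Polynomial FormClasses SLComm

variable {F : Type*} [Field F] [Finite F] {σ : F →+* F} {N : ℕ}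

theorem tupOf_append (ps qs : List (F[X] × ℕ)) (i : ℕ) :
    tupOf (ps ++ qs) i = tupOf ps i * tupOf qs i := by
  simp [tupOf, List.filter_append, List.map_append, List.prod_append]

/-- `z` is a quotient by the conjugate. -/
theorem exists_quot (hσ : ∀ a, σ (σ a) = a) {a₀ : F} (ha₀ : σ a₀ ≠ a₀) {z : F} (hz : z * σ z = 1) :
    ∃ a, a ≠ 0 ∧ a = z * σ a := by
  by_cases h : (1 : F) + z ≠ 0
  · exact ⟨1 + z, h, by rw [map_add, map_one]; linear_combination -hz⟩
  · push Not at h
    refine ⟨a₀ - σ a₀, sub_ne_zero.2 (Ne.symm ha₀), ?_⟩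
    rw [map_sub, hσ]
    linear_combination (a₀ - σ a₀) * h

variable {V : Type*} [AddCommGroup V] [Module F V] [FiniteDimensional F V]
variable {B : V → V → F} {g : Module.End F V}

/-- A determinant of the linear centraliser of a cyclic isometry gives one of the unitary centraliser. -/
theorem exists_isom_det (S : Setting σ N B g) {v : V} (hspan : cspan g v = ⊤) {e : ℕ}
    (hd : ∀ t : Fˣ, t ^ e ∈ detSub g) {z : F} (hz : z * σ z = 1) :
    ∃ T : V ≃ₗ[F] V, (∀ x y, B (T x) (T y) = B x y) ∧ (∀ x, T (g x) = g (T x)) ∧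
      LinearMap.det (T : Module.End F V) = z ^ e := by
  obtain ⟨a₀, ha₀⟩ := S.moved
  obtain ⟨a, ha, haz⟩ := exists_quot S.invol ha₀ hz
  obtain ⟨u, hu, hud⟩ := mem_detSub.1 (hd (Units.mk0 a ha))
  obtain ⟨P, hP⟩ := mem_cspan.1 (hspan ▸ Submodule.mem_top : (u : Module.End F V) v ∈ cspan g v)
  have hall : ∀ G : F[X], Commute (u : Module.End F V) (aeval g G) := fun G => by
    induction G using Polynomial.induction_on with
    | C c => rw [aeval_C]; exact (Algebra.commutes c _).symm
    | add p q hp hq => rw [map_add]; exact hp.add_right hq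
    | monomial k c ih => rw [pow_succ, ← mul_assoc, map_mul, aeval_X]; exact ih.mul_right hu
  have huP : (u : Module.End F V) = aeval g P := LinearMap.ext fun x => by
    obtain ⟨G, rfl⟩ := mem_cspan.1 (hspan ▸ Submodule.mem_top : x ∈ cspan g v)
    rw [← Module.End.mul_apply, (hall G).eq, Module.End.mul_apply, ← hP, ← Module.End.mul_apply,
      ← Module.End.mul_apply, ← map_mul, ← map_mul, mul_comm]
  set y := aeval g P with hy
  set y' := aeval g (bar σ N P) with hy'
  have hdy : LinearMap.det y = ((Units.mk0 a ha ^ e : Fˣ) : F) := by rw [← huP, hud]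
  rw [Units.val_pow_eq_pow_val, Units.val_mk0] at hdy
  have hadj := det_adjoint S.form S.nondeg y y' fun x w => adjoint_left S.form S.isom S.pos P x w
  rw [hdy] at hadj
  have hy'0 : LinearMap.det y' ≠ 0 := fun h0 => by
    rw [h0, map_zero] at hadj
    exact pow_ne_zero e ha hadj
  let D := LinearMap.equivOfDetNeZero y (by rw [hdy]; exact pow_ne_zero e ha)
  let D' := LinearMap.equivOfDetNeZero y' hy'0
  have hD : ∀ x, D x = y x := fun x => rfl
  have hD' : ∀ x, D' x = y' x := fun x => rfl
  have hcomm : Commute y y' := by rw [hy, hy', Commute, SemiconjBy, ← map_mul, ← map_mul, mul_comm]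
  have hiso : ∀ p q, B (y p) (y q) = B (y' p) (y' q) := fun p q => by
    rw [hy, adjoint_left S.form S.isom S.pos P]
    conv_rhs => rw [hy', adjoint_left S.form S.isom S.pos, aeval_bar_bar_apply S]
    rw [← hy, ← hy']
    rw [← Module.End.mul_apply, ← Module.End.mul_apply, hcomm.eq]
  have hDg : ∀ x, D' (g x) = g (D' x) := fun x => by
    have h := congrArg (fun r => aeval g r) (mul_comm (bar σ N P) X)
    simp only [map_mul, aeval_X] at h
    exact LinearMap.congr_fun h x
  have hDg' : ∀ x, D (g x) = g (D x) := fun x => by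
    have h := congrArg (fun r => aeval g r) (mul_comm P X)
    simp only [map_mul, aeval_X] at h
    exact LinearMap.congr_fun h x
  refine ⟨D'.symm.trans D, fun p q => ?_, fun x => ?_, ?_⟩
  · obtain ⟨p, rfl⟩ := D'.surjective p
    obtain ⟨q, rfl⟩ := D'.surjective q
    simp only [LinearEquiv.trans_apply, LinearEquiv.symm_apply_apply]
    exact hiso p q
  · obtain ⟨x, rfl⟩ := D'.surjective x
    rw [← hDg]
    simp only [LinearEquiv.trans_apply, LinearEquiv.symm_apply_apply]
    exact hDg' x
  · have h1 : ((D'.symm.trans D : V ≃ₗ[F] V) : Module.End F V) * (D' : Module.End F V) = y :=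
      LinearMap.ext fun x => by
        show (D'.symm.trans D) (D' x) = y x
        rw [LinearEquiv.trans_apply, D'.symm_apply_apply]; rfl
    have h2 := congrArg LinearMap.det h1
    rw [map_mul, hdy, show (D' : Module.End F V) = y' from rfl] at h2
    have h3 : LinearMap.det y' = σ (a ^ e) := by rw [hadj, S.invol]
    rw [h3] at h2
    have h4 : a ^ e = z ^ e * σ (a ^ e) := by rw [map_pow, ← mul_pow, ← haz]
    exact mul_right_cancel₀ (fun h0 => pow_ne_zero e ha ((map_eq_zero σ).1 h0)) (h2.trans h4)
where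
  aeval_bar_bar_apply (S : Setting σ N B g) {P : F[X]} :
      aeval g (bar σ N (bar σ N P)) = aeval g P := aeval_bar_bar S.invol S.pos S.isom.pow P

/-- The data of an isometry. -/
theorem exists_data (S : Setting σ N B g) :
    ∃ ps : List (F[X] × ℕ), PairsOk ps ∧ Sim g (dcyc (blocks ps)) ∧
      pdeg ps = Module.finrank F V ∧ (∀ i, starP σ (tupOf ps i) = tupOf ps i) ∧
      ∀ x ∈ ps, ∀ z : F, z * σ z = 1 → ∃ T : V ≃ₗ[F] V, (∀ u w, B (T u) (T w) = B u w) ∧
        (∀ u, T (g u) = g (T u)) ∧ LinearMap.det (T : Module.End F V) = z ^ x.2 := by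
  classical
  obtain ⟨n, hn⟩ : ∃ n, Module.finrank F V = n := ⟨_, rfl⟩
  induction n using Nat.strong_induction_on generalizing V with
  | _ n ih =>
    rcases Nat.eq_zero_or_pos n with rfl | hpos
    · haveI : Subsingleton V := Module.finrank_zero_iff.1 hn
      refine ⟨[], by simp [PairsOk], ?_, by simp [pdeg, hn], fun i => by simp [tupOf, starP_one], by simp⟩
      haveI : Subsingleton (∀ i : Fin (blocks ([] : List (F[X] × ℕ))).length,
          AdjoinRoot ((blocks ([] : List (F[X] × ℕ))).get i)) :=
        ⟨fun a b => funext fun i => absurd i.isLt (by simp [blocks])⟩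
      exact ⟨LinearEquiv.ofSubsingleton V _, fun v => Subsingleton.elim _ _⟩
    haveI : Nontrivial V := Module.nontrivial_of_finrank_pos (R := F) (by omega)
    obtain ⟨h, e, ps₁, w, he, hps, hsim, hdeg, hsym, hne, hhm, hW, hw0, hkill, hann⟩ := exists_piece S
    set W := cspan g w with hWdef
    have hWi : ∀ x ∈ W, g x ∈ W := map_mem_cspan
    have hc := isCompl_orth S.form hW
    set U := orth S.form W
    have hUi : ∀ x ∈ U, g x ∈ U := orth_invariant S.form S.isom S.pos hWi
    set gW := g.restrict hWi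
    set gU := g.restrict hUi
    have hval : ∀ (Z : Submodule F V) (hZ : ∀ x ∈ Z, g x ∈ Z) (q : F[X]) (y : Z),
        ((aeval (g.restrict hZ) q y : Z) : V) = aeval g q y := by
      intro Z hZ q
      induction q using Polynomial.induction_on with
      | C c => intro y; simp [Algebra.algebraMap_eq_smul_one]
      | add q r hq hr => intro y; simp [map_add, hq y, hr y]
      | monomial k c ih =>
        intro y
        simp only [pow_succ, ← mul_assoc]
        rw [map_mul (aeval (g.restrict hZ)) (C c * Polynomial.X ^ k), map_mul (aeval g) (C c * Polynomial.X ^ k),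
          aeval_X, aeval_X, Module.End.mul_apply, Module.End.mul_apply, ih ((g.restrict hZ) y)]
        rfl
    have SW : Setting σ N (fun x y : W => B x y) gW :=
      ⟨S.form.restrict W, ⟨fun x y => S.isom.isom x y, by
        refine LinearMap.ext fun x => Subtype.ext ?_
        have := hval W hWi (X ^ N) x
        rw [aeval_X_pow, aeval_X_pow, S.isom.pow] at this
        exact this⟩, S.pos, S.invol, S.moved,
        fun x hx => Subtype.ext (hW x x.2 fun y hy => hx ⟨y, hy⟩)⟩
    have SU : Setting σ N (fun x y : U => B x y) gU :=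
      ⟨S.form.restrict U, ⟨fun x y => S.isom.isom x y, by
        refine LinearMap.ext fun x => Subtype.ext ?_
        have := hval U hUi (X ^ N) x
        rw [aeval_X_pow, aeval_X_pow, S.isom.pow] at this
        exact this⟩, S.pos, S.invol, S.moved,
        fun x hx => Subtype.ext (nondegOn_orth S.form hW S.nondeg x x.2 fun y hy => hx ⟨y, hy⟩)⟩
    set wW : W := ⟨w, self_mem_cspan g w⟩
    have hspan : cspan gW wW = ⊤ := by
      rw [eq_top_iff]
      rintro ⟨x, hx⟩ -
      obtain ⟨G, rfl⟩ := mem_cspan.1 hx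
      exact mem_cspan.2 ⟨G, Subtype.ext (hval W hWi G wW)⟩
    have hdim : Module.finrank F W = (h ^ e).natDegree := by
      haveI := (hhm.pow e).finite_adjoinRoot
      rw [← finrank_adjoinRoot (hhm.pow e)]
      refine (LinearEquiv.ofBijective (evMap gW wW (hhm.pow e)) ⟨?_, ?_⟩).finrank_eq.symm
      · refine (injective_iff_map_eq_zero _).2 fun a ha => ?_
        obtain ⟨G, rfl⟩ := AdjoinRoot.mk_surjective a
        rw [evMap_mk (hhm.pow e) (Subtype.ext (by rw [hval W hWi]; exact hkill))] at ha
        refine AdjoinRoot.mk_eq_zero.2 (hann G ?_)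
        rw [← hval W hWi G wW, ha]; rfl
      · intro x
        obtain ⟨G, hG⟩ := mem_cspan.1 (hspan ▸ Submodule.mem_top : x ∈ cspan gW wW)
        exact ⟨AdjoinRoot.mk _ G, by
          rw [evMap_mk (hhm.pow e) (Subtype.ext (by rw [hval W hWi]; exact hkill)), hG]⟩
    have hsW : Sim gW (dcyc (blocks ps₁)) :=
      (sim_cyc (hhm.pow e) hdim hspan (Subtype.ext (by rw [hval W hWi]; exact hkill))).trans hsim
    have hok₁ : PairsOk ps₁ := fun x hx => ⟨(hps x hx).1, (hps x hx).2.1, by rw [(hps x hx).2.2.1]; exact he,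
      (hps x hx).2.2.2⟩
    have hdimU := Submodule.finrank_add_eq_of_isCompl hc
    have hWpos : 0 < Module.finrank F W :=
      Module.finrank_pos_iff.2 (Submodule.nontrivial_iff_ne_bot.2 fun hb => hw0 (by
        have := self_mem_cspan g w; rwa [← hWdef, hb, Submodule.mem_bot] at this))
    obtain ⟨ps₂, hok₂, hsU, hdeg₂, hsym₂, hT₂⟩ := ih (Module.finrank F U) (by omega) SU rfl
    have hsg : Sim g (gW.prodMap gU) := Sim.symm ⟨Submodule.prodEquivOfIsCompl _ _ hc, fun x => by
      simp [gW, gU, LinearMap.prodMap_apply, map_add]⟩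
    refine ⟨ps₁ ++ ps₂, ?_, ?_, ?_, ?_, ?_⟩
    · intro x hx
      rcases List.mem_append.1 hx with hx | hx
      · exact hok₁ x hx
      · exact hok₂ x hx
    · rw [show blocks (ps₁ ++ ps₂) = blocks ps₁ ++ blocks ps₂ from List.map_append]
      exact hsg.trans ((hsW.prodMap hsU).trans (dcyc_append _ _).symm)
    · rw [show pdeg (ps₁ ++ ps₂) = pdeg ps₁ + pdeg ps₂ by simp [pdeg], hdeg, hdeg₂, ← hdim, hdimU]
    · intro i
      rw [tupOf_append, starP_mul, hsym, hsym₂]
    · intro x hx z hz
      -- extend an isometry of one summand by the identity on the other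
      have ext : ∀ (T₁ : W ≃ₗ[F] W) (T₂ : U ≃ₗ[F] U), (∀ u v : W, B (T₁ u) (T₁ v) = B u v) →
          (∀ u v : U, B (T₂ u) (T₂ v) = B u v) → (∀ u, T₁ (gW u) = gW (T₁ u)) →
          (∀ u, T₂ (gU u) = gU (T₂ u)) →
          ∃ T : V ≃ₗ[F] V, (∀ u v, B (T u) (T v) = B u v) ∧ (∀ u, T (g u) = g (T u)) ∧
            LinearMap.det (T : Module.End F V) =
              LinearMap.det (T₁ : Module.End F W) * LinearMap.det (T₂ : Module.End F U) := by
        intro T₁ T₂ h1 h2 h3 h4
        set Φ := Submodule.prodEquivOfIsCompl _ _ hc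
        refine ⟨Φ.symm.trans ((T₁.prodCongr T₂).trans Φ), fun u v => ?_, fun u => ?_, ?_⟩
        · obtain ⟨⟨a, b⟩, rfl⟩ := Φ.surjective u
          obtain ⟨⟨a', b'⟩, rfl⟩ := Φ.surjective v
          simp only [LinearEquiv.trans_apply, LinearEquiv.symm_apply_apply]
          show B ((T₁ a : V) + (T₂ b : V)) ((T₁ a' : V) + (T₂ b' : V)) = B ((a : V) + b) ((a' : V) + b')
          rw [S.form.add_left, S.form.add_right, S.form.add_right, h1, h2, S.form.add_left, S.form.add_right,
            S.form.add_right, b.2 a' a'.2, S.form.eq_zero_symm (b'.2 a a.2), (T₂ b).2 _ (T₁ a').2,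
            S.form.eq_zero_symm ((T₂ b').2 _ (T₁ a).2)]
        · obtain ⟨⟨a, b⟩, rfl⟩ := Φ.surjective u
          have e1 : ∀ (a : W) (b : U), g (Φ (a, b)) = Φ (gW a, gU b) := fun a b => by
            simp [Φ, gW, gU, map_add]
          rw [e1]
          simp only [LinearEquiv.trans_apply, LinearEquiv.symm_apply_apply, LinearEquiv.prodCongr_apply]
          rw [e1, h3, h4]
        · rw [← SLComm.det_prodMap' (T₁ : Module.End F W) (T₂ : Module.End F U)]
          refine (Sim.det_eq ⟨Φ, fun v => ?_⟩).symm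
          simp [LinearMap.prodMap_apply]
      rcases List.mem_append.1 hx with hx | hx
      · obtain ⟨T₁, h1, h3, hd⟩ := exists_isom_det SW hspan (e := x.2)
          (fun t => detSub_sim hsW (pow_mem_detSub_blocks hok₁ hx t)) hz
        obtain ⟨T, hT1, hT2, hT3⟩ := ext T₁ (LinearEquiv.refl F U) h1 (fun _ _ => rfl) h3 (fun _ => rfl)
        exact ⟨T, hT1, hT2, by rw [hT3, hd]; simp⟩
      · obtain ⟨T₂, h2, h4, hd⟩ := hT₂ x hx z hz
        obtain ⟨T, hT1, hT2, hT3⟩ := ext (LinearEquiv.refl F W) T₂ (fun _ _ => rfl) h2 (fun _ => rfl) h4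
        exact ⟨T, hT1, hT2, by rw [hT3, hd]; simp⟩

end Cfsg.Agent.UnitaryClassCount
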