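import Cfsg.Agent.Lib.FormClasses.Realise
import Cfsg.Agent.Lib.FormClasses.Count
import Cfsg.Agent.Lib.Unitary.Group
import Mathlib.LinearAlgebra.Matrix.Charpoly.Coeff
/-!
`SU_n(q)` has at least `q^(n-1)` conjugacy classes.
-/
set_option autoImplicit false
set_option linter.unusedVariables false
set_option linter.unusedSectionVars false

namespace Cfsg.Agent.UnitaryClassCount

open Polynomial Matrix

variable {F : Type*} [Field F] [Fintype F] {q : ℕ} (hF : Fintype.card F = q ^ 2)
include hF

theorem le_card_classes_SU (m : ℕ) : q ^ m ≤ Nat.card (ConjClasses (Cfsg.SU (m + 1) F q)) := by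
  classical
  set n := m + 1
  let T : (Fin m → F) → (Fin m → F) := fun v i => (-1) ^ n * v (Fin.rev i) ^ q
  have hneg : ((-1 : F) ^ n) ^ q = (-1) ^ n := by
    rw [← pow_mul, mul_comm, pow_mul, Unitary.neg_pow_q hF, one_pow]
  have hneg2 : ((-1 : F) ^ n) * (-1) ^ n = 1 := by rw [← mul_pow]; simp
  rw [← FormClasses.card_semilinear_fixed hF m T
    (fun x y => funext fun i => by simp only [T, Pi.add_apply, Unitary.add_pow_q hF]; ring)
    (fun a x => funext fun i => by simp only [T, Pi.smul_apply, smul_eq_mul, mul_pow]; ring)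
    (fun x => funext fun i => by
      simp only [T, Fin.rev_rev, mul_pow, Unitary.pow_q_pow_q hF, hneg]
      rw [← mul_assoc, hneg2, one_mul])]
  let cp : ConjClasses (Cfsg.SU n F q) → (Fin m → F) := Quotient.lift
    (fun g i => ((g : Matrix.SpecialLinearGroup (Fin n) F) : Matrix (Fin n) (Fin n) F).charpoly.coeff (i.val + 1))
    fun g h hgh => by
      obtain ⟨x, hx⟩ := isConj_iff.1 (show IsConj g h from hgh)
      subst hx
      funext i
      show _ = (((x * g * x⁻¹ : Cfsg.SU n F q) : Matrix.SpecialLinearGroup (Fin n) F) :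
        Matrix (Fin n) (Fin n) F).charpoly.coeff _
      congr 1
      rw [Subgroup.coe_mul, Subgroup.coe_mul, Subgroup.coe_inv]
      refine Eq.symm ?_
      have := Matrix.charpoly_units_conj (Matrix.SpecialLinearGroup.toGL (x : Matrix.SpecialLinearGroup (Fin n) F))
        ((g : Matrix.SpecialLinearGroup (Fin n) F) : Matrix (Fin n) (Fin n) F)
      rw [← Matrix.coe_units_inv] at this
      rw [← map_inv] at this
      exact this
  have hsurj : ∀ v : {v : Fin m → F // T v = v}, ∃ c, cp c = v.1 := by
    rintro ⟨v, hv⟩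
    let cf : Fin n → F := Fin.cons ((-1) ^ n) v
    set g : F[X] := ∑ i : Fin n, C (cf i) * X ^ i.val
    have hg : g.degree < ((n : ℕ) : WithBot ℕ) := degree_sum_fin_lt _
    set P := X ^ n + g
    have hP : P.Monic := (monic_X_pow n).add_of_left (by rw [degree_X_pow]; exact hg)
    have hd : P.natDegree = n := natDegree_eq_of_degree_eq_some
      (by rw [degree_add_eq_left_of_degree_lt (by rw [degree_X_pow]; exact hg), degree_X_pow])
    have hc : ∀ i : Fin n, P.coeff i.val = cf i := by
      intro i
      rw [coeff_add, coeff_X_pow, if_neg (by omega), zero_add]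
      simp only [g, finset_sum_coeff, coeff_C_mul, coeff_X_pow]
      rw [Finset.sum_eq_single i (fun j _ hj => by
        rw [if_neg (fun e => hj (Fin.ext e.symm)), mul_zero]) (by simp)]
      simp
    have hc0 : P.coeff 0 = (-1) ^ n := by simpa [cf] using hc 0
    have hcs : ∀ i : Fin m, P.coeff (i.val + 1) = v i := fun i => by simpa [cf] using hc i.succ
    have hn1 : P.coeff n = 1 := by
      have := hP.coeff_natDegree
      rwa [hd] at this
    have hsym : ∀ i ≤ n, P.coeff i ^ q = (-1) ^ n * P.coeff (n - i) := by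
      intro i hi
      rcases Nat.eq_zero_or_pos i with rfl | hpos
      · rw [hc0, hneg, Nat.sub_zero, hn1, mul_one]
      rcases Nat.lt_or_ge i n with hlt | hge
      · obtain ⟨j, rfl⟩ : ∃ j, i = j + 1 := ⟨i - 1, by omega⟩
        have hj : j < m := by omega
        have hv' := congrFun hv (Fin.rev ⟨j, hj⟩)
        simp only [T, Fin.rev_rev] at hv'
        have h1 := hcs ⟨j, hj⟩
        have h2 := hcs (Fin.rev ⟨j, hj⟩)
        simp only [Fin.val_rev] at h2
        rw [h1, show n - (j + 1) = m - (j + 1) + 1 by omega, h2, ← hv', ← mul_assoc, hneg2, one_mul]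
      · rw [show i = n by omega, hn1, one_pow, Nat.sub_self, hc0, hneg2]
    obtain ⟨M, hM, hMc⟩ := FormClasses.exists_unitary_charpoly hF n P hP hd hsym
    have hdet : M.det = 1 := by
      rw [Matrix.det_eq_sign_charpoly_coeff, Fintype.card_fin, hMc, hc0, hneg2]
    refine ⟨ConjClasses.mk (⟨⟨M, hdet⟩, (Unitary.mem_SU_iff _).2 hM⟩ : Cfsg.SU n F q), funext fun i => ?_⟩
    show M.charpoly.coeff (i.val + 1) = v i
    rw [hMc, hcs]
  choose c hc using hsurj
  exact Nat.card_le_card_of_injective c fun a b he => Subtype.ext (by rw [← hc a, he, hc b])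

end Cfsg.Agent.UnitaryClassCount
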