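import Cfsg.Agent.Lib.UnitaryClassCount.Star
/-!
A non-degenerate cyclic piece of an isometry of a hermitian form: `exists_piece`.
-/
set_option autoImplicit false
set_option linter.unusedVariables false
set_option linter.unusedSectionVars false

namespace Cfsg.Agent.UnitaryClassCount

open Polynomial FormClasses SLComm

variable {F : Type*} [Field F] {σ : F →+* F} {N : ℕ}
variable {V : Type*} [AddCommGroup V] [Module F V]

/-- The hypotheses on an isometry of a hermitian form. -/
structure Setting (σ : F →+* F) (N : ℕ) (B : V → V → F) (g : Module.End F V) : Prop where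
  form : IsForm σ (1 : F) B
  isom : IsIsom N B g
  pos : 0 < N
  invol : ∀ a, σ (σ a) = a
  moved : ∃ a, σ a ≠ a
  nondeg : ∀ x, (∀ y, B x y = 0) → x = 0

variable {B : V → V → F} {g : Module.End F V} (S : Setting σ N B g)
include S

theorem g_injective : Function.Injective g := fun x y h => by
  have h1 := congrArg (g ^ (N - 1)) h
  rwa [← Module.End.mul_apply, ← Module.End.mul_apply, (pow_pred_comm S.pos S.isom.pow).1,
    Module.End.one_apply, Module.End.one_apply] at h1

theorem g_pow_injective (k : ℕ) : Function.Injective (g ^ k) := by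
  rw [Module.End.coe_pow]; exact (g_injective S).iterate k

/-- An operator with all self-pairings zero vanishes. -/
theorem eq_zero_of_self {a : Module.End F V} (h : ∀ v, B (a v) v = 0) : a = 0 := by
  obtain ⟨α, hα⟩ := S.moved
  refine LinearMap.ext fun u => S.nondeg _ fun w => ?_
  have h1 : B (a u) w + B (a w) u = 0 := by
    have := h (u + w)
    rw [map_add, S.form.add_left, S.form.add_right, S.form.add_right, h u, h w] at this
    linear_combination this
  have h2 : α * B (a u) w + σ α * B (a w) u = 0 := by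
    have := h (α • u + w)
    rw [map_add, map_smul, S.form.add_left, S.form.add_right, S.form.add_right, S.form.smul_left,
      S.form.smul_left, S.form.smul_right, S.form.smul_right, h u, h w] at this
    linear_combination this
  have : (α - σ α) * B (a u) w = 0 := by linear_combination h2 - σ α * h1
  exact (mul_eq_zero.1 this).resolve_left (sub_ne_zero.2 (Ne.symm hα))

variable [Finite F] [FiniteDimensional F V]

theorem minpoly_coeff_zero : (minpoly F g).coeff 0 ≠ 0 := by
  intro h0
  have hm := minpoly.monic (IsIntegral.of_finite F g)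
  obtain ⟨R, hR⟩ := X_dvd_iff.2 h0
  have hRm : R.Monic := monic_X.of_mul_monic_left (hR ▸ hm)
  have hRz : aeval g R = 0 := LinearMap.ext fun x => g_injective S (by
    have := LinearMap.congr_fun (hR ▸ minpoly.aeval F g) x
    rw [map_mul, aeval_X, Module.End.mul_apply] at this
    rw [this]; simp)
  have := natDegree_le_of_dvd (minpoly.dvd F g hRz) hRm.ne_zero
  rw [hR, natDegree_mul X_ne_zero hRm.ne_zero, natDegree_X] at this
  omega

theorem starP_minpoly : starP σ (minpoly F g) = minpoly F g := by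
  have hm := minpoly.monic (IsIntegral.of_finite F g)
  have h0 := minpoly_coeff_zero S
  have hz : aeval g (starP σ (minpoly F g)) = 0 := by
    have hb : aeval g (bar σ N (minpoly F g)) = 0 := LinearMap.ext fun x => S.nondeg _ fun y => by
      rw [← adjoint_right S.form S.isom S.pos, minpoly.aeval, LinearMap.zero_apply, S.form.zero_right]
    rw [aeval_starP S.pos S.isom.pow, hb, mul_zero, mul_zero]
  refine (eq_of_monic_of_dvd_of_natDegree_le hm (starP_monic σ h0) (minpoly.dvd F g hz) ?_)
  rw [natDegree_starP σ h0]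

/-- The primary block of the minimal polynomial at a conjugate-reciprocal orbit. -/
theorem exists_orbit [Nontrivial V] :
    ∃ (p h c : F[X]) (e : ℕ) (ps : List (F[X] × ℕ)), Irreducible p ∧ p.Monic ∧ 0 < e ∧ h.Monic ∧
      c.Monic ∧ starP σ (h ^ e) = h ^ e ∧ starP σ c = c ∧ minpoly F g = h ^ e * c ∧
      IsCoprime (h ^ e) c ∧ p ∣ h ∧
      (∀ p', Irreducible p' → p'.Monic → p' ∣ h → p' = p ∨ p' = starP σ p) ∧
      (∀ x ∈ ps, Irreducible x.1 ∧ x.1.Monic ∧ x.2 = e ∧ x.1.coeff 0 ≠ 0) ∧
      Sim (Cyc (h ^ e)) (dcyc (blocks ps)) ∧ pdeg ps = (h ^ e).natDegree ∧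
      (∀ i, starP σ (tupOf ps i) = tupOf ps i) ∧ ps ≠ [] := by
  classical
  set m := minpoly F g with hm_def
  have hint := IsIntegral.of_finite F g
  have hm := minpoly.monic hint
  have hm0 := minpoly_coeff_zero S
  have hstar := starP_minpoly S
  rw [← hm_def] at hm hm0 hstar
  obtain ⟨p, hpm, hp, hpd⟩ := exists_monic_irreducible_factor m (minpoly.not_isUnit F g)
  have hp0 : p.coeff 0 ≠ 0 := fun e => hm0 (by
    obtain ⟨r, hr⟩ := hpd; rw [hr, mul_coeff_zero, e, zero_mul])
  set e := multiplicity p m with he_def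
  have hfin : FiniteMultiplicity p m :=
    finiteMultiplicity_of_degree_pos_of_monic hp.degree_pos hpm hm.ne_zero
  obtain ⟨c₀, hc₀, hnd⟩ := hfin.exists_eq_pow_mul_and_not_dvd
  rw [← he_def] at hc₀
  have he : 0 < e := Nat.pos_of_ne_zero fun h0 => hnd (by
    rw [h0, pow_zero, one_mul] at hc₀; rwa [← hc₀])
  have hc₀m : c₀.Monic := (hpm.pow e).of_mul_monic_left (hc₀ ▸ hm)
  by_cases hpp : starP σ p = p
  · have hhe : starP σ (p ^ e) = p ^ e := by rw [starP_pow, hpp]
    refine ⟨p, p, c₀, e, [(p, e)], hp, hpm, he, hpm, hc₀m, hhe, ?_, hc₀, ?_, dvd_rfl, ?_, ?_, ?_, ?_,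
      ?_, by simp⟩
    · have h1 : p ^ e * c₀ = p ^ e * starP σ c₀ := by
        conv_rhs => rw [← hhe, ← starP_mul, ← hc₀, hstar, hc₀]
      exact (mul_left_cancel₀ (pow_ne_zero _ hpm.ne_zero) h1).symm
    · exact (hp.coprime_iff_not_dvd.2 hnd).pow_left
    · intro p' hp' hp'm hd
      exact Or.inl (eq_of_monic_of_associated hp'm hpm (hp'.associated_of_dvd hp hd))
    · intro x hx
      rw [List.mem_singleton.1 hx]
      exact ⟨hp, hpm, rfl, hp0⟩
    · exact (dcyc_singleton _).symm
    · simp [pdeg, hpm.natDegree_pow]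
    · intro i
      rw [tupOf_cons]
      simp only [tupOf, List.filter_nil, List.map_nil, List.prod_nil, mul_one]
      split_ifs
      · exact hpp
      · exact starP_one σ
  · set p₁ := starP σ p with hp₁_def
    have hp₁ : Irreducible p₁ := irreducible_starP σ S.invol hp hpm hp0
    have hp₁m : p₁.Monic := starP_monic σ hp0
    have hp₁0 : p₁.coeff 0 ≠ 0 := coeff_zero_starP_ne σ hpm hp0
    have hne : ¬ p ∣ p₁ := fun hd => hpp (eq_of_monic_of_associated hp₁m hpm
      (hp.associated_of_dvd hp₁ hd).symm)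
    have hcop : IsCoprime p p₁ := hp.coprime_iff_not_dvd.2 hne
    have hd1 : p₁ ^ e ∣ c₀ := by
      have h1 : p₁ ^ e ∣ m := by
        rw [← hstar, hp₁_def, ← starP_pow]
        exact starP_dvd σ ⟨c₀, hc₀⟩
      exact (hcop.symm.pow (m := e) (n := e)).dvd_of_dvd_mul_left (hc₀ ▸ h1)
    obtain ⟨c, hc⟩ := hd1
    have hcm : c.Monic := (hp₁m.pow e).of_mul_monic_left (hc ▸ hc₀m)
    have hmeq : m = (p * p₁) ^ e * c := by rw [hc₀, hc, mul_pow, mul_assoc]
    have hhe : starP σ ((p * p₁) ^ e) = (p * p₁) ^ e := by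
      rw [starP_pow, starP_mul, hp₁_def, starP_starP σ S.invol hpm hp0, mul_comm]
    have hsc : starP σ c = c := by
      have h1 : (p * p₁) ^ e * c = (p * p₁) ^ e * starP σ c := by
        conv_rhs => rw [← hhe, ← starP_mul, ← hmeq, hstar, hmeq]
      exact (mul_left_cancel₀ (pow_ne_zero _ (hpm.mul hp₁m).ne_zero) h1).symm
    have hpc : ¬ p ∣ c := fun hd => hnd (hc ▸ dvd_mul_of_dvd_right hd _)
    have hp₁c : ¬ p₁ ∣ c := fun hd => hpc (by
      have := starP_dvd σ hd
      rwa [hsc, hp₁_def, starP_starP σ S.invol hpm hp0] at this)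
    refine ⟨p, p * p₁, c, e, [(p, e), (p₁, e)], hp, hpm, he, hpm.mul hp₁m, hcm, hhe, hsc, hmeq, ?_,
      dvd_mul_right _ _, ?_, ?_, ?_, ?_, ?_, by simp⟩
    · exact ((hp.coprime_iff_not_dvd.2 hpc).mul_left (hp₁.coprime_iff_not_dvd.2 hp₁c)).pow_left
    · intro p' hp' hp'm hd
      rcases hp'.prime.dvd_or_dvd hd with h | h
      · exact Or.inl (eq_of_monic_of_associated hp'm hpm (hp'.associated_of_dvd hp h))
      · exact Or.inr (eq_of_monic_of_associated hp'm hp₁m (hp'.associated_of_dvd hp₁ h))
    · intro x hx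
      simp only [List.mem_cons, List.not_mem_nil, or_false] at hx
      rcases hx with rfl | rfl
      · exact ⟨hp, hpm, rfl, hp0⟩
      · exact ⟨hp₁, hp₁m, rfl, hp₁0⟩
    · rw [mul_pow]
      refine (cyc_mul_sim (hpm.pow e) (hp₁m.pow e) (hcop.pow (m := e) (n := e))).trans ?_
      exact ((Sim.refl _).prodMap (dcyc_singleton _).symm).trans (dcyc_cons _ _).symm
    · simp [pdeg, (hpm.mul hp₁m).natDegree_pow, hpm.natDegree_mul hp₁m, mul_add]
    · intro i
      rw [tupOf_cons, tupOf_cons]
      simp only [tupOf, List.filter_nil, List.map_nil, List.prod_nil, mul_one]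
      split_ifs
      · rw [starP_mul, hp₁_def, starP_starP σ S.invol hpm hp0, mul_comm]
      · rw [mul_one, starP_one]

/-- A vector generating a non-degenerate cyclic subspace with primary annihilator. -/
theorem exists_piece [Nontrivial V] :
    ∃ (h : F[X]) (e : ℕ) (ps : List (F[X] × ℕ)) (w : V), 0 < e ∧
      (∀ x ∈ ps, Irreducible x.1 ∧ x.1.Monic ∧ x.2 = e ∧ x.1.coeff 0 ≠ 0) ∧
      Sim (Cyc (h ^ e)) (dcyc (blocks ps)) ∧ pdeg ps = (h ^ e).natDegree ∧
      (∀ i, starP σ (tupOf ps i) = tupOf ps i) ∧ ps ≠ [] ∧ h.Monic ∧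
      NondegOn B (cspan g w) ∧ w ≠ 0 ∧ aeval g (h ^ e) w = 0 ∧
      (∀ R : F[X], aeval g R w = 0 → h ^ e ∣ R) := by
  classical
  obtain ⟨p, h, c, e, ps, hp, hpm, he, hhm, hcm, hhe, hsc, hmeq, hcop, hph, horb, hps, hsim, hdeg,
    hsym, hne⟩ := exists_orbit S
  set m := minpoly F g with hm_def
  have hm := minpoly.monic (IsIntegral.of_finite F g)
  have hm0 := minpoly_coeff_zero S
  rw [← hm_def] at hm hm0
  have hmz : aeval g m = 0 := minpoly.aeval F g
  have hzero : ∀ R : F[X], m ∣ R → aeval g R = 0 := by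
    rintro R ⟨t, rfl⟩; rw [map_mul, hmz, zero_mul]
  obtain ⟨u, s, hus⟩ := hcop
  set E : F[X] := s * c with hE
  -- the idempotent of the block is self-adjoint
  have hE' : ∀ x y : V, B (aeval g E x) y = B x (aeval g E y) := by
    intro x y
    have hbc : ∃ k : F[X], aeval g (bar σ N c) = aeval g (k * c) := by
      have hh := aeval_starP S.pos S.isom.pow (σ := σ) c
      rw [hsc] at hh
      refine ⟨C (σ (c.coeff 0)) * X ^ (c.natDegree * (N - 1)), ?_⟩
      have hc0 : c.coeff 0 ≠ 0 := fun e0 => hm0 (by rw [hmeq, mul_coeff_zero, e0, mul_zero])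
      rw [map_mul, hh, map_mul, aeval_C, aeval_X_pow, mul_assoc, ← mul_assoc (g ^ (c.natDegree * (N - 1))),
        ← (Algebra.commutes (σ (c.coeff 0))⁻¹ (g ^ (c.natDegree * (N - 1)))), mul_assoc, ← mul_assoc,
        ← map_mul, mul_inv_cancel₀ (fun e0 => hc0 ((map_eq_zero σ).1 e0)), map_one, one_mul, ← mul_assoc,
        ← pow_add, show c.natDegree * (N - 1) + c.natDegree = N * c.natDegree by
          obtain ⟨N', rfl⟩ : ∃ N', N = N' + 1 := ⟨N - 1, by have := S.pos; omega⟩
          rw [Nat.add_sub_cancel]; ring,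
        pow_mul, S.isom.pow, one_pow, one_mul]
    have hbh : ∃ k : F[X], aeval g (bar σ N (h ^ e)) = aeval g (k * h ^ e) := by
      have hh := aeval_starP S.pos S.isom.pow (σ := σ) (h ^ e)
      rw [hhe] at hh
      have hh0 : (h ^ e).coeff 0 ≠ 0 := fun e0 => hm0 (by rw [hmeq, mul_coeff_zero, e0, zero_mul])
      refine ⟨C (σ ((h ^ e).coeff 0)) * X ^ ((h ^ e).natDegree * (N - 1)), ?_⟩
      rw [map_mul, hh, map_mul, aeval_C, aeval_X_pow, mul_assoc,
        ← mul_assoc (g ^ ((h ^ e).natDegree * (N - 1))),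
        ← (Algebra.commutes (σ ((h ^ e).coeff 0))⁻¹ (g ^ ((h ^ e).natDegree * (N - 1)))), mul_assoc,
        ← mul_assoc, ← map_mul, mul_inv_cancel₀ (fun e0 => hh0 ((map_eq_zero σ).1 e0)), map_one, one_mul,
        ← mul_assoc, ← pow_add, show (h ^ e).natDegree * (N - 1) + (h ^ e).natDegree = N * (h ^ e).natDegree by
          obtain ⟨N', rfl⟩ : ∃ N', N = N' + 1 := ⟨N - 1, by have := S.pos; omega⟩
          rw [Nat.add_sub_cancel]; ring,
        pow_mul, S.isom.pow, one_pow, one_mul]
    obtain ⟨k₁, hk₁⟩ := hbc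
    obtain ⟨k₂, hk₂⟩ := hbh
    rw [adjoint_left S.form S.isom S.pos]
    congr 1
    refine LinearMap.congr_fun ?_ y
    have e1 : aeval g (bar σ N E) = aeval g (bar σ N s * k₁ * c) := by
      rw [hE, map_mul (bar σ N), map_mul, hk₁, ← map_mul, mul_assoc]
    have e2 : aeval g (bar σ N E) + aeval g (bar σ N u * k₂ * h ^ e) = 1 := by
      have := congrArg (fun r => aeval g (bar σ N r)) hus
      simp only [map_add, map_one] at this
      rw [map_mul (bar σ N) u, map_mul (aeval g) (bar σ N u), hk₂, ← map_mul (aeval g), ← mul_assoc] at this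
      rw [← this, hE]; abel
    have e3 : aeval g E + aeval g (u * h ^ e) = 1 := by
      rw [← map_add, hE, show s * c + u * h ^ e = u * h ^ e + s * c by ring, hus, map_one]
    calc aeval g (bar σ N E) = aeval g (bar σ N E) * (aeval g E + aeval g (u * h ^ e)) := by
          rw [e3, mul_one]
      _ = aeval g (bar σ N E) * aeval g E := by
          rw [mul_add, e1, ← map_mul _ (bar σ N s * k₁ * c) (u * h ^ e),
            hzero (bar σ N s * k₁ * c * (u * h ^ e)) ⟨bar σ N s * k₁ * u, by rw [hmeq]; ring⟩, add_zero]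
      _ = (aeval g (bar σ N E) + aeval g (bar σ N u * k₂ * h ^ e)) * aeval g E := by
          rw [add_mul, ← map_mul _ (bar σ N u * k₂ * h ^ e) E,
            hzero (bar σ N u * k₂ * h ^ e * E) ⟨bar σ N u * k₂ * s, by rw [hmeq, hE]; ring⟩, add_zero]
      _ = aeval g E := by rw [e2, one_mul]
  -- a vector seen by the minimal ideal at `p`
  obtain ⟨m₁, hm₁⟩ : p ∣ h ^ e := hph.trans (dvd_pow_self h he.ne')
  have hm₁m : m₁.Monic := hpm.of_mul_monic_left (hm₁ ▸ hhm.pow e)
  have ha : aeval g (m₁ * c) ≠ 0 := fun h0 => by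
    have := natDegree_le_of_dvd (minpoly.dvd F g h0) (hm₁m.mul hcm).ne_zero
    rw [← hm_def, hmeq, hm₁, mul_assoc, hpm.natDegree_mul (hm₁m.mul hcm)] at this
    have := hp.natDegree_pos
    omega
  obtain ⟨v, hv⟩ : ∃ v, B (aeval g (m₁ * c) v) v ≠ 0 := by
    by_contra hall
    push Not at hall
    exact ha (eq_zero_of_self S hall)
  set w := aeval g E v with hw
  have hkill : aeval g (h ^ e) w = 0 := by
    rw [hw, ← Module.End.mul_apply, ← map_mul, hzero _ ⟨s, by rw [hmeq, hE]; ring⟩, LinearMap.zero_apply]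
  have hvw : B (aeval g (m₁ * c) w) w ≠ 0 := by
    have hEE : aeval g (m₁ * c) * aeval g E = aeval g (m₁ * c) := by
      rw [← map_mul]
      refine sub_eq_zero.1 ?_
      rw [← map_sub]
      refine hzero _ ⟨-(m₁ * u), ?_⟩
      rw [hmeq, hE]
      linear_combination (m₁ * c) * hus
    rw [hw, ← hE', ← Module.End.mul_apply, ← Module.End.mul_apply,
      show aeval g E * aeval g (m₁ * c) = aeval g (m₁ * c) * aeval g E by rw [← map_mul, ← map_mul, mul_comm],
      hEE, hEE]
    exact hv
  have hw0 : w ≠ 0 := fun h0 => hvw (by rw [h0, S.form.zero_right])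
  clear_value w
  set W := cspan g w with hW
  -- both primes of the orbit are seen inside the cyclic subspace
  have key : ∀ p', Irreducible p' → p'.Monic → p' ∣ h → ∀ m₂, h ^ e = p' * m₂ →
      ∃ y ∈ W, B (aeval g (m₂ * c) w) y ≠ 0 := by
    intro p' hp' hp'm hd m₂ hm₂
    rcases horb p' hp' hp'm hd with rfl | rfl
    · rw [mul_left_cancel₀ hpm.ne_zero (hm₂.symm.trans hm₁)]
      exact ⟨w, self_mem_cspan g w, hvw⟩
    · have hp0 : p.coeff 0 ≠ 0 := fun e0 => hm0 (by rw [hmeq, hm₁, mul_coeff_zero, mul_coeff_zero, e0,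
        zero_mul, zero_mul])
      have hm10 : (m₁ * c).coeff 0 ≠ 0 := fun e0 => hm0 (by rw [hmeq, hm₁, mul_assoc, mul_coeff_zero, e0,
        mul_zero])
      have hstar' : starP σ (m₁ * c) = m₂ * c := by
        refine mul_left_cancel₀ hp'm.ne_zero ?_
        rw [← starP_mul, ← mul_assoc, ← hm₁, starP_mul, hhe, hsc, ← mul_assoc, ← hm₂]
      have h1 : B w (aeval g (bar σ N (m₁ * c)) w) ≠ 0 := by
        rw [← adjoint_left S.form S.isom S.pos]; exact hvw
      set d := (m₁ * c).natDegree
      refine ⟨(g ^ d) w, mem_cspan.2 ⟨X ^ d, by rw [aeval_X_pow]⟩, fun h2 => h1 ?_⟩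
      rw [← hstar', aeval_starP S.pos S.isom.pow, Module.End.mul_apply, Module.algebraMap_end_apply,
        S.form.smul_left, Module.End.mul_apply] at h2
      have hiso : ∀ k x y, B ((g ^ k) x) ((g ^ k) y) = B x y := by
        intro k
        induction k with
        | zero => intro x y; simp
        | succ k ih => intro x y; rw [pow_succ', Module.End.mul_apply, Module.End.mul_apply, S.isom.isom, ih]
      rw [hiso] at h2
      refine S.form.eq_zero_symm ((mul_eq_zero.1 h2).resolve_left (inv_ne_zero fun e0 => hm10 ((map_eq_zero σ).1 e0)))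
  have hker : ∀ R : F[X], aeval g R w ≠ 0 → ∀ p', Irreducible p' → p'.Monic → p' ∣ h →
      aeval g p' (aeval g R w) = 0 → (∀ y ∈ W, B (aeval g R w) y = 0) → False := by
    intro R hR hp'' hp' hp'm hd hz horth
    obtain ⟨m₂, hm₂⟩ : hp'' ∣ h ^ e := hd.trans (dvd_pow_self h he.ne')
    obtain ⟨y, hy, hyne⟩ := key hp'' hp' hp'm hd m₂ hm₂
    -- `R` acts as a multiple of `m₂`, invertible modulo `hp''`
    have hann : h ^ e ∣ hp'' * R := by
      by_contra hndvd
      set G := EuclideanDomain.gcd (h ^ e) (hp'' * R)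
      have hG : aeval g G w = 0 := by
        rw [show G = _ from EuclideanDomain.gcd_eq_gcd_ab (h ^ e) (hp'' * R), map_add, LinearMap.add_apply,
          mul_comm (h ^ e), map_mul, Module.End.mul_apply, hkill, map_zero, zero_add,
          mul_comm (hp'' * R), map_mul, Module.End.mul_apply, map_mul, Module.End.mul_apply, hz, map_zero]
      obtain ⟨G', hG'⟩ : G ∣ h ^ e := EuclideanDomain.gcd_dvd_left _ _
      have hnu : ¬ IsUnit G' := fun hu => hndvd (((associated_mul_unit_right G G' hu).trans (by rw [hG'])).dvd'.trans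
        (EuclideanDomain.gcd_dvd_right _ _))
      obtain ⟨r, hrm, hr, hrd⟩ := exists_monic_irreducible_factor G' hnu
      have hrh : r ∣ h := hr.prime.dvd_of_dvd_pow (hrd.trans ⟨G, by rw [mul_comm]; exact hG'⟩)
      obtain ⟨G'', hG''⟩ := hrd
      obtain ⟨y', hy', hne'⟩ := key r hr hrm hrh (G * G'') (by rw [hG', hG'']; ring)
      refine hne' ?_
      rw [show G * G'' * c = G'' * c * G by ring, map_mul, Module.End.mul_apply, hG, map_zero,
        S.form.zero_left]
    obtain ⟨t, ht⟩ := hann
    rw [hm₂, mul_assoc] at ht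
    have hRt : R = m₂ * t := mul_left_cancel₀ hp'm.ne_zero ht
    have hnd : ¬ hp'' ∣ t := fun hd' => hR (by
      obtain ⟨t', rfl⟩ := hd'
      rw [hRt, show m₂ * (hp'' * t') = t' * (hp'' * m₂) by ring, ← hm₂, map_mul, Module.End.mul_apply,
        hkill, map_zero])
    obtain ⟨a, b, hab⟩ := hp'.coprime_iff_not_dvd.2 hnd
    refine hyne ?_
    have e1 : aeval g (m₂ * c) w = aeval g (b * c) (aeval g R w) := by
      rw [hRt]
      refine sub_eq_zero.1 ?_
      rw [← Module.End.mul_apply, ← map_mul, ← LinearMap.sub_apply, ← map_sub, show m₂ * c - b * c * (m₂ * t) = a * c * (hp'' * m₂) by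
        linear_combination -(m₂ * c) * hab, ← hm₂, map_mul, Module.End.mul_apply, hkill, map_zero]
    rw [e1, adjoint_left S.form S.isom S.pos]
    exact horth _ (aeval_mem (φ := g) (fun z hz' => map_mem_cspan z hz') _ y hy)
  refine ⟨h, e, ps, w, he, hps, hsim, hdeg, hsym, hne, hhm, ?_, hw0, hkill, ?_⟩
  · -- descend to a vector of the radical killed by one prime
    intro x hx horth
    by_contra hx0
    obtain ⟨R, hRx⟩ := mem_cspan.1 hx
    subst hRx
    have descent : ∀ Q : F[X], Q ∣ h ^ e → aeval g Q (aeval g R w) = 0 → False := by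
      intro Q
      induction hk : Q.natDegree using Nat.strong_induction_on generalizing Q R with
      | _ k ih =>
        intro hQ hz
        by_cases hu : IsUnit Q
        · obtain ⟨a, ha, rfl⟩ := isUnit_iff.1 hu
          rw [aeval_C, Module.algebraMap_end_apply] at hz
          exact hx0 ((smul_eq_zero.1 hz).resolve_left ha.ne_zero)
        obtain ⟨r, hrm, hr, Q', rfl⟩ := exists_monic_irreducible_factor Q hu
        have hrh : r ∣ h := hr.prime.dvd_of_dvd_pow ((dvd_mul_right r Q').trans hQ)
        have horth' : ∀ y ∈ W, B (aeval g Q' (aeval g R w)) y = 0 := fun y hy => by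
          rw [adjoint_left S.form S.isom S.pos]
          exact horth _ (aeval_mem (φ := g) (fun z hz' => map_mem_cspan z hz') _ y hy)
        by_cases hQ'z : aeval g Q' (aeval g R w) = 0
        · refine ih Q'.natDegree ?_ R hx horth hx0 Q' rfl ((dvd_mul_left Q' r).trans hQ) hQ'z
          have hQne : Q' ≠ 0 := fun e0 => by
            rw [e0, mul_zero, zero_dvd_iff] at hQ
            exact (hhm.pow e).ne_zero hQ
          rw [← hk, natDegree_mul hrm.ne_zero hQne]
          have := hr.natDegree_pos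
          omega
        · refine hker (Q' * R) ?_ r hr hrm hrh ?_ ?_
          · rwa [map_mul, Module.End.mul_apply]
          · rw [← Module.End.mul_apply, ← map_mul, ← mul_assoc, map_mul, Module.End.mul_apply]; exact hz
          · intro y hy; rw [map_mul, Module.End.mul_apply]; exact horth' y hy
    exact descent (h ^ e) dvd_rfl (by rw [← Module.End.mul_apply, ← map_mul, mul_comm, map_mul,
      Module.End.mul_apply, hkill, map_zero])
  · intro R hR
    by_contra hndvd
    set G := EuclideanDomain.gcd (h ^ e) R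
    have hG : aeval g G w = 0 := by
      rw [show G = _ from EuclideanDomain.gcd_eq_gcd_ab (h ^ e) R, map_add, LinearMap.add_apply,
        mul_comm (h ^ e), map_mul, Module.End.mul_apply, hkill, map_zero, zero_add,
        mul_comm R, map_mul, Module.End.mul_apply, hR, map_zero]
    obtain ⟨G', hG'⟩ : G ∣ h ^ e := EuclideanDomain.gcd_dvd_left _ _
    have hnu : ¬ IsUnit G' := fun hu => hndvd (((associated_mul_unit_right G G' hu).trans (by rw [hG'])).dvd'.trans
      (EuclideanDomain.gcd_dvd_right _ _))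
    obtain ⟨r, hrm, hr, hrd⟩ := exists_monic_irreducible_factor G' hnu
    have hrh : r ∣ h := hr.prime.dvd_of_dvd_pow (hrd.trans ⟨G, by rw [mul_comm]; exact hG'⟩)
    obtain ⟨G'', hG''⟩ := hrd
    obtain ⟨y', hy', hne'⟩ := key r hr hrm hrh (G * G'') (by rw [hG', hG'']; ring)
    refine hne' ?_
    rw [show G * G'' * c = G'' * c * G by ring, map_mul, Module.End.mul_apply, hG, map_zero,
      S.form.zero_left]

end Cfsg.Agent.UnitaryClassCount
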